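import Groth.Agent.CohDescTop.Push
import Groth.Agent.SiteBase.ProperDescent.Cofree
import Groth.Agent.SiteBase.Cohom
import Groth.Agent.SitePullUnit.DerivedClass
import Mathlib.Topology.Sheaves.Flasque
import Mathlib.CategoryTheory.Abelian.GrothendieckCategory.EnoughInjectives

/-!
# Sheaves on a simplicial space which are acyclic for the direct image to the base
-/

set_option autoImplicit false
set_option linter.unusedSectionVars false
set_option linter.style.haveILetI false
set_option backward.isDefEq.respectTransparency false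
set_option backward.isDefEq.respectTransparency.types false

universe u

open CategoryTheory CategoryTheory.Limits Opposite Simplicial TopologicalSpace Pseudofunctor.CoGrothendieck

noncomputable section

namespace Groth.Agent.CohDescTop

open FibDesc

variable (Y : (WithInitial SimplexCategory)ᵒᵖ ⥤ TopCat.{u})

/-- The space of a degree. -/
abbrev spP (i : SimplexCategoryᵒᵖ) : TopCat.{u} := Y.obj ((toAug SimplexCategory).obj i)

instance isContinuous_ιP (i : SimplexCategoryᵒᵖ) :
    (ι (part (topAug Y)) i).IsContinuous (partTop (topAug Y) (topAugTop Y) i)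
      (totPart (topAug Y) (topAugTop Y)) :=
  FibSiteLib.isContinuous_ι (isPreFibSite_part Y) i

instance isCocontinuous_ιP (i : SimplexCategoryᵒᵖ) :
    (ι (part (topAug Y)) i).IsCocontinuous (partTop (topAug Y) (topAugTop Y) i)
      (totPart (topAug Y) (topAugTop Y)) :=
  FibSiteLib.isCocontinuous_ι (isPreFibSite_part Y) i

/-- Restriction to a degree. -/
abbrev resD (i : SimplexCategoryᵒᵖ) :=
  FibSite.restr (part (topAug Y)) (partTop (topAug Y) (topAugTop Y)) AddCommGrpCat.{u} i

instance additive_resD (i : SimplexCategoryᵒᵖ) : (resD Y i).Additive where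

instance preservesFiniteLimits_resD (i : SimplexCategoryᵒᵖ) : PreservesFiniteLimits (resD Y i) :=
  haveI : PreservesLimitsOfSize.{0, 0} (resD Y i) :=
    ((ι (part (topAug Y)) i).sheafAdjunctionContinuous AddCommGrpCat.{u}
      (partTop (topAug Y) (topAugTop Y) i) (totPart (topAug Y) (topAugTop Y))).rightAdjoint_preservesLimits
  inferInstance

instance preservesFiniteColimits_resD (i : SimplexCategoryᵒᵖ) : PreservesFiniteColimits (resD Y i) :=
  haveI : PreservesColimitsOfSize.{0, 0} (resD Y i) :=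
    ((ι (part (topAug Y)) i).sheafAdjunctionCocontinuous AddCommGrpCat.{u}
      (partTop (topAug Y) (topAugTop Y) i) (totPart (topAug Y) (topAugTop Y))).leftAdjoint_preservesColimits
  inferInstance

/-- Flasqueness in a degree. -/
abbrev IsFlasqueAt (M : DS Y) (i : SimplexCategoryᵒᵖ) : Prop :=
  TopCat.Sheaf.IsFlasque ((resD Y i).obj M : TopCat.Sheaf AddCommGrpCat.{u} (spP Y i))

/-- Componentwise flasque with exact rows. -/
structure IsGood (M : DS Y) : Prop where
  flasque : ∀ i, IsFlasqueAt Y M i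
  rows : ∀ (W : Opens (Y.obj (bot SimplexCategory))) (p : ℕ),
    ((DescentSS.cx (nv Y W)).obj M.obj).ExactAt (p + 1)

/-- Injective sheaves are good. -/
theorem isGood_of_injective (M : DS Y) [Injective M] : IsGood Y M where
  flasque i := ⟨fun {U V} k => by
    have hm : Mono ((ι (part (topAug Y)) i).map k.unop) := ⟨fun a b e => part_ext Y (by
      have := congrArg (fun t => t.base) e
      simpa [ι] using this)⟩
    exact (AddCommGrpCat.epi_iff_surjective _).2 (SiteBase.sections_surjective_of_mono _ M)⟩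
  rows W p := by
    have : Injective M.obj :=
      (sheafificationAdjunction (totPart (topAug Y) (topAugTop Y)) AddCommGrpCat.{u}).map_injective M ‹_›
    let cone : ∀ {m q : ℕ}, (⦋q⦌ ⟶ ⦋m⦌) → (⦋q + 1⦌ ⟶ ⦋m⦌) := fun {m q} φ => SimplexCategory.mkHom
      ⟨Fin.cons 0 φ.toOrderHom, fun a b hab => by
        induction a using Fin.cases with
        | zero => exact Fin.zero_le _
        | succ a =>
          induction b using Fin.cases with
          | zero => exact absurd hab (Fin.succ_pos a).not_ge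
          | succ b => rw [Fin.cons_succ, Fin.cons_succ]; exact φ.toOrderHom.monotone (Fin.succ_le_succ_iff.1 hab)⟩
    have hd : ∀ (T : Part Y) (q : SimplexCategoryᵒᵖ) (φ : T ⟶ (nv Y W).obj q), opP Y T ≤ preY Y _ W :=
      fun T q φ => le_preY Y W T ((FibDesc.incl (topAug Y)).map φ ≫ augP Y W q)
    refine ProperDescent.exactAt_cx_of_injective (nv Y W)
      (fun T q φ => toNv Y W T (hd T _ φ) (cone φ.base.unop).op) (fun T q φ => ?_) (fun T q φ i => ?_) M.obj p
    · refine part_ext Y (Quiver.Hom.unop_inj ?_)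
      ext k
      show ((Fin.cons 0 φ.base.unop.toOrderHom : Fin (q + 2) → _) ((0 : Fin (q + 2)).succAbove k) : ℕ) = _
      rw [Fin.succAbove_zero, Fin.cons_succ]
    · refine part_ext Y (Quiver.Hom.unop_inj ?_)
      ext k
      show ((Fin.cons 0 φ.base.unop.toOrderHom : Fin (q + 3) → _) (i.succ.succAbove k) : ℕ) =
        ((Fin.cons 0 (fun k => φ.base.unop.toOrderHom (i.succAbove k)) : Fin (q + 2) → _) k : ℕ)
      induction k using Fin.cases with
      | zero => rw [Fin.succ_succAbove_zero, Fin.cons_zero, Fin.cons_zero]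
      | succ k => rw [Fin.succ_succAbove_succ, Fin.cons_succ, Fin.cons_succ]

/-- Sections at an object. -/
abbrev secD (d : Part Y) : DS Y ⥤ AddCommGrpCat.{u} :=
  sheafToPresheaf (totPart (topAug Y) (topAugTop Y)) AddCommGrpCat.{u} ⋙ (evaluation _ _).obj (op d)

lemma shortExact_secD (S : ShortComplex (DS Y)) (hS : S.ShortExact) (h₁ : IsGood Y S.X₁) (d : Part Y) :
    (S.map (secD Y d)).ShortExact := by
  have hR : (S.map (resD Y d.base)).ShortExact := hS.map_of_exact (resD Y d.base)
  have hf : IsFlasqueAt Y S.X₁ d.base := h₁.flasque d.base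
  have he : Epi (S.g.hom.app (op d)) :=
    @TopCat.Sheaf.IsFlasque.epi_of_shortExact _ (opP Y d) _ hR hf
  have hk : (S.map (secD Y d)).Exact ∧ Mono (S.map (secD Y d)).f :=
    ⟨ShortComplex.exact_of_f_is_kernel _ (KernelFork.mapIsLimit _ hS.fIsKernel (secD Y d)),
      have := hS.mono_f; inferInstanceAs (Mono ((secD Y d).map S.f))⟩
  exact ShortComplex.ShortExact.mk' hk.1 hk.2 he

lemma shortExact_rows (S : ShortComplex (DS Y)) (hS : S.ShortExact) (h₁ : IsGood Y S.X₁)
    (W : Opens (Y.obj (bot SimplexCategory))) :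
    (S.map (sheafToPresheaf (totPart (topAug Y) (topAugTop Y)) AddCommGrpCat.{u} ⋙
      DescentSS.cx (nv Y W))).ShortExact :=
  HomologicalComplex.shortExact_of_degreewise_shortExact _ fun n =>
    shortExact_secD Y S hS h₁ ((nv Y W).obj (op ⦋n⦌))

theorem isGood_of_shortExact (S : ShortComplex (DS Y)) (hS : S.ShortExact) (h₁ : IsGood Y S.X₁)
    (h₂ : IsGood Y S.X₂) : IsGood Y S.X₃ where
  flasque i :=
    @TopCat.Sheaf.IsFlasque.of_shortExact_of_isFlasque₁₂ _ _ (hS.map_of_exact (resD Y i))
      (h₁.flasque i) (h₂.flasque i)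
  rows W p := by
    have hR := shortExact_rows Y S hS h₁ W
    rw [HomologicalComplex.exactAt_iff_isZero_homology]
    refine (hR.homology_exact₃ (p + 1) (p + 2) (by simp)).isZero_X₂ ?_ ?_
    · exact ((HomologicalComplex.exactAt_iff_isZero_homology _ _).1 (h₂.rows W p)).eq_of_src _ _
    · exact ((HomologicalComplex.exactAt_iff_isZero_homology _ _).1 (h₁.rows W (p + 1))).eq_of_tgt _ _

lemma cx_d_zero (P : (Part Y)ᵒᵖ ⥤ AddCommGrpCat.{u}) (W : Opens (Y.obj (bot SimplexCategory)))
    (x : P.obj (op ((nv Y W).obj (op ⦋0⦌)))) :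
    (((DescentSS.cx (nv Y W)).obj P).d 0 1).hom x =
      (P.map (face Y W 0).op).hom x - (P.map (face Y W 1).op).hom x := by
  refine (DescentSS.cx_d_apply (nv Y W) P 0 x).trans ?_
  rw [Fin.sum_univ_two]
  simp only [Fin.val_zero, pow_zero, one_smul, Fin.val_one, pow_one, neg_smul]
  exact (sub_eq_add_neg _ _).symm

theorem epi_pushY (S : ShortComplex (DS Y)) (hS : S.ShortExact) (h₁ : IsGood Y S.X₁) :
    Epi ((pushY Y).map S.g) := by
  have : ∀ W : Opens (Y.obj (bot SimplexCategory)), Epi (((pushY Y).map S.g).hom.app (op W)) := fun W => by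
    rw [AddCommGrpCat.epi_iff_surjective]
    intro c
    let Q := sheafToPresheaf (totPart (topAug Y) (topAugTop Y)) AddCommGrpCat.{u} ⋙ DescentSS.cx (nv Y W)
    let g0 := ((Q.map S.g).f 0).hom
    let f0 := ((Q.map S.f).f 0).hom
    let g1 := ((Q.map S.g).f 1).hom
    let f1 := ((Q.map S.f).f 1).hom
    obtain ⟨y, hy⟩ : ∃ y : (Q.obj S.X₂).X 0, g0 y = (π0 Y W S.X₃).hom c :=
      (AddCommGrpCat.epi_iff_surjective _).1
        (shortExact_secD Y S hS h₁ ((nv Y W).obj (op ⦋0⦌))).epi_g ((π0 Y W S.X₃).hom c)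
    have hg : g1 (((Q.obj S.X₂).d 0 1).hom y) = 0 := by
      refine (ConcreteCategory.congr_hom ((Q.map S.g).comm 0 1) y).symm.trans ?_
      refine (congrArg ((Q.obj S.X₃).d 0 1).hom hy).trans ?_
      exact (cx_d_zero Y _ W _).trans (sub_eq_zero.2 (π0_cocycle Y W S.X₃ c))
    obtain ⟨z, hz⟩ : ∃ z : (Q.obj S.X₁).X 1, f1 z = ((Q.obj S.X₂).d 0 1).hom y :=
      (ShortComplex.ab_exact_iff _).1
        (shortExact_secD Y S hS h₁ ((nv Y W).obj (op ⦋1⦌))).exact _ hg
    have hz0 : ((Q.obj S.X₁).d 1 2).hom z = 0 := by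
      have hm : Function.Injective ((Q.map S.f).f 2).hom := (AddCommGrpCat.mono_iff_injective _).1
        (shortExact_secD Y S hS h₁ ((nv Y W).obj (op ⦋2⦌))).mono_f
      refine hm ?_
      refine (ConcreteCategory.congr_hom ((Q.map S.f).comm 1 2) z).symm.trans ?_
      refine (congrArg ((Q.obj S.X₂).d 1 2).hom hz).trans ?_
      exact (ConcreteCategory.congr_hom ((Q.obj S.X₂).d_comp_d 0 1 2) y).trans (map_zero _).symm
    have hex := h₁.rows W 0
    rw [HomologicalComplex.exactAt_iff' _ 0 1 2 (by simp) (by simp), ShortComplex.ab_exact_iff] at hex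
    obtain ⟨w, hw⟩ : ∃ w : (Q.obj S.X₁).X 0, ((Q.obj S.X₁).d 0 1).hom w = z := hex z hz0
    let y' : (Q.obj S.X₂).X 0 := y - f0 w
    have hy' : ((Q.obj S.X₂).d 0 1).hom y' = 0 := by
      refine (map_sub _ _ _).trans (sub_eq_zero.2 ?_)
      refine hz.symm.trans ((congrArg f1 hw).symm.trans ?_)
      exact (ConcreteCategory.congr_hom ((Q.map S.f).comm 0 1) w).symm
    obtain ⟨a, ha⟩ := exists_π0_eq Y W S.X₂ y' (sub_eq_zero.1 ((cx_d_zero Y _ W y').symm.trans hy'))
    refine ⟨a, π0_injective Y W S.X₃ ?_⟩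
    refine (ConcreteCategory.congr_hom (π0_natural Y W S.g) a).trans ?_
    refine (congrArg (S.g.hom.app _).hom ha).trans ?_
    refine ((map_sub g0 y (f0 w)).trans ?_).trans hy
    refine sub_eq_self.2 ?_
    exact ConcreteCategory.congr_hom (congrArg (fun t => t.hom.app (op ((nv Y W).obj (op ⦋0⦌)))) S.zero) w
  have : ∀ W, Epi (((pushY Y).map S.g).hom.app W) := fun W => this W.unop
  have : Epi ((pushY Y).map S.g).hom := NatTrans.epi_of_epi_app _
  exact (sheafToPresheaf _ _).epi_of_epi_map this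

/-- Good sheaves are acyclic for the direct image. -/
theorem isZero_rightDerived_pushY (M : DS Y) (hM : IsGood Y M) (q : ℕ) :
    IsZero (((pushY Y).rightDerived (q + 1)).obj M) :=
  haveI : PreservesFiniteLimits (pushY Y) :=
    haveI : PreservesLimitsOfSize.{0, 0} (pushY Y) := inferInstance
    inferInstance
  SitePullUnit.isZero_rightDerived_of_class (pushY Y) (IsGood Y)
    (fun S hS h₁ h₂ => isGood_of_shortExact Y S hS h₁ (isGood_of_injective Y S.X₂))
    (fun S hS h₁ _ => epi_pushY Y S hS h₁) hM q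

end Groth.Agent.CohDescTop
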