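import Groth.Agent.CohDescTop.Sites
import Mathlib.Algebra.Category.Grp.Limits
import Mathlib.AlgebraicTopology.SimplexCategory.Basic

/-!
# The direct image to the base as an equalizer
-/

set_option autoImplicit false
set_option linter.unusedSectionVars false
set_option linter.style.haveILetI false
set_option backward.isDefEq.respectTransparency false
set_option backward.isDefEq.respectTransparency.types false

universe u

open CategoryTheory CategoryTheory.Limits Opposite Simplicial TopologicalSpace Pseudofunctor.CoGrothendieck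

noncomputable section

namespace Groth.Agent.CohDescTop

open FibDesc

variable (Y : (WithInitial SimplexCategory)ᵒᵖ ⥤ TopCat.{u})

/-- Sheaves on the simplicial space. -/
abbrev DS : Type (u + 1) := DSh (topAug Y) (topAugTop Y) AddCommGrpCat.{u}

/-- The direct image to the base. -/
abbrev pushY : DS Y ⥤ BaseSh (topAug Y) (topAugTop Y) AddCommGrpCat.{u} :=
  push (topAug Y) (topAugTop Y) AddCommGrpCat.{u}

/-- The open of an object of the part. -/
def opP (d : Part Y) : Opens (Y.obj ((toAug SimplexCategory).obj d.base)) := d.fiber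

variable (W : Opens (Y.obj (bot SimplexCategory)))

/-- The base open as an object. -/
abbrev baseT : Tot Y := obT Y (bot SimplexCategory) W

/-- The augmentation of the simplicial object over an open. -/
def augP (n : SimplexCategoryᵒᵖ) : (FibDesc.incl (topAug Y)).obj ((nv Y W).obj n) ⟶ baseT Y W :=
  homT Y (toBot _) le_rfl

lemma le_preY (d : Part Y) (h : (FibDesc.incl (topAug Y)).obj d ⟶ baseT Y W) : opP Y d ≤ preY Y _ W := by
  have := le_of_homT Y h
  rw [toBot_unique h.base (toBot _)] at this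
  exact this

/-- A morphism to the simplicial object over an open. -/
def toNv (d : Part Y) (hd : opP Y d ≤ preY Y _ W) {n : SimplexCategoryᵒᵖ} (f : d.base ⟶ n) :
    d ⟶ (nv Y W).obj n :=
  homP Y f (hd.trans (preY_le Y _ W))

/-- The vertex. -/
abbrev vtx (d : Part Y) (j : Fin (d.base.unop.len + 1)) : d.base ⟶ op ⦋0⦌ :=
  (SimplexCategory.const ⦋0⦌ d.base.unop j).op

variable (M : DS Y)

/-- The right Kan extension. -/
abbrev ranM : (Tot Y)ᵒᵖ ⥤ AddCommGrpCat.{u} := (FibDesc.incl (topAug Y)).op.ran.obj M.obj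

/-- The component of a section of the direct image. -/
def π0 : ((pushY Y).obj M).obj.obj (op W) ⟶ M.obj.obj (op ((nv Y W).obj (op ⦋0⦌))) :=
  ((ranM Y M).map (augP Y W (op ⦋0⦌)).op : (ranM Y M).obj (op (baseT Y W)) ⟶ _) ≫
    ((FibDesc.incl (topAug Y)).op.ranCounit.app M.obj).app (op ((nv Y W).obj (op ⦋0⦌)))

/-- Every component is a restriction of the component at a vertex. -/
lemma proj_eq (d : Part Y) (h : (FibDesc.incl (topAug Y)).obj d ⟶ baseT Y W)
    (j : Fin (d.base.unop.len + 1)) (a : ((pushY Y).obj M).obj.obj (op W)) :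
    (((FibDesc.incl (topAug Y)).op.ranCounit.app M.obj).app (op d)).hom (((ranM Y M).map h.op).hom a) =
      (M.obj.map (toNv Y W d (le_preY Y W d h) (vtx Y d j)).op).hom ((π0 Y W M).hom a) := by
  let v := toNv Y W d (le_preY Y W d h) (vtx Y d j)
  have e : h = (FibDesc.incl (topAug Y)).map v ≫ augP Y W (op ⦋0⦌) := tot_ext Y (toBot_unique _ _)
  have key : (ranM Y M).map h.op ≫ ((FibDesc.incl (topAug Y)).op.ranCounit.app M.obj).app (op d) =
      (ranM Y M).map (augP Y W (op ⦋0⦌)).op ≫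
        ((FibDesc.incl (topAug Y)).op.ranCounit.app M.obj).app (op ((nv Y W).obj (op ⦋0⦌))) ≫ M.obj.map v.op := by
    rw [e, op_comp, Functor.map_comp, Category.assoc]
    exact congrArg (_ ≫ ·) (((FibDesc.incl (topAug Y)).op.ranCounit.app M.obj).naturality v.op)
  exact ConcreteCategory.congr_hom key a

/-- The components determine a section. -/
theorem π0_injective : Function.Injective (π0 Y W M).hom := fun a b hab => by
  refine Concrete.isLimit_ext _ ((FibDesc.incl (topAug Y)).op.isPointwiseRightKanExtensionRanCounit M.obj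
    (op (baseT Y W))) a b fun k => ?_
  refine (proj_eq Y W M k.right.unop k.hom.unop 0 a).trans ?_
  exact (congrArg _ hab).trans (proj_eq Y W M k.right.unop k.hom.unop 0 b).symm

/-- The two faces. -/
abbrev face (i : Fin 2) : (nv Y W).obj (op ⦋1⦌) ⟶ (nv Y W).obj (op ⦋0⦌) := (nv Y W).δ i

theorem π0_cocycle (a : ((pushY Y).obj M).obj.obj (op W)) :
    (M.obj.map (face Y W 0).op).hom ((π0 Y W M).hom a) = (M.obj.map (face Y W 1).op).hom ((π0 Y W M).hom a) := by
  let d := (nv Y W).obj (op ⦋1⦌)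
  have e : ∀ i : Fin 2, ∃ j : Fin 2, toNv Y W d (le_preY Y W d (augP Y W (op ⦋1⦌))) (vtx Y d j) = face Y W i :=
    fun i => ⟨(SimplexCategory.δ i : ⦋0⦌ ⟶ ⦋1⦌).toOrderHom 0, part_ext Y (Quiver.Hom.unop_inj (by
      ext k
      fin_cases k
      rfl))⟩
  obtain ⟨j, hj⟩ := e 0
  obtain ⟨j', hj'⟩ := e 1
  rw [← hj, ← hj']
  exact (proj_eq Y W M d (augP Y W (op ⦋1⦌)) j a).symm.trans (proj_eq Y W M d (augP Y W (op ⦋1⦌)) j' a)

section Lift

variable (x : M.obj.obj (op ((nv Y W).obj (op ⦋0⦌))))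

/-- A cocycle takes one value at all vertices. -/
lemma vertex_eq (hx : (M.obj.map (face Y W 0).op).hom x = (M.obj.map (face Y W 1).op).hom x)
    (d : Part Y) (hd : opP Y d ≤ preY Y _ W) (a b : Fin (d.base.unop.len + 1)) (h : a ≤ b) :
    (M.obj.map (toNv Y W d hd (vtx Y d a)).op).hom x = (M.obj.map (toNv Y W d hd (vtx Y d b)).op).hom x := by
  let ψ : d ⟶ (nv Y W).obj (op ⦋1⦌) := toNv Y W d hd (SimplexCategory.mkOfLe a b h).op
  have e1 : ψ ≫ face Y W 1 = toNv Y W d hd (vtx Y d a) := part_ext Y (Quiver.Hom.unop_inj (by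
    ext k
    fin_cases k
    rfl))
  have e0 : ψ ≫ face Y W 0 = toNv Y W d hd (vtx Y d b) := part_ext Y (Quiver.Hom.unop_inj (by
    ext k
    fin_cases k
    rfl))
  rw [← e1, ← e0, op_comp, op_comp, M.obj.map_comp, M.obj.map_comp]
  exact congrArg (M.obj.map ψ.op).hom hx.symm

/-- The cocycles. -/
abbrev cocyc : AddSubgroup (M.obj.obj (op ((nv Y W).obj (op ⦋0⦌)))) :=
  AddMonoidHom.eqLocus (M.obj.map (face Y W 0).op).hom (M.obj.map (face Y W 1).op).hom

/-- The cone of cocycles. -/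
def cocycCone : Cone (StructuredArrow.proj (op (baseT Y W)) (FibDesc.incl (topAug Y)).op ⋙ M.obj) where
  pt := AddCommGrpCat.of (cocyc Y W M)
  π :=
    { app := fun k => AddCommGrpCat.ofHom (((M.obj.map (toNv Y W k.right.unop (le_preY Y W _ k.hom.unop)
        (vtx Y k.right.unop 0)).op).hom).comp (cocyc Y W M).subtype)
      naturality := fun k k' φ => by
        ext ⟨z, hz⟩
        show (M.obj.map (toNv Y W k'.right.unop (le_preY Y W _ k'.hom.unop) (vtx Y k'.right.unop 0)).op).hom z =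
          (M.obj.map φ.right).hom ((M.obj.map (toNv Y W k.right.unop (le_preY Y W _ k.hom.unop)
            (vtx Y k.right.unop 0)).op).hom z)
        have e : φ.right.unop ≫ toNv Y W k.right.unop (le_preY Y W _ k.hom.unop) (vtx Y k.right.unop 0) =
            toNv Y W k'.right.unop (le_preY Y W _ k'.hom.unop)
              (vtx Y k'.right.unop (φ.right.unop.base.unop.toOrderHom 0)) :=
          part_ext Y (Quiver.Hom.unop_inj (by ext i; rfl))
        refine Eq.trans ?_ (ConcreteCategory.congr_hom (M.obj.map_comp _ φ.right) z)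
        refine Eq.trans ?_ (congrArg (fun t => (M.obj.map (Quiver.Hom.op t)).hom z) e).symm
        exact vertex_eq Y W M z hz k'.right.unop _ 0 _ (Fin.zero_le _) }

/-- Every cocycle is a component. -/
theorem exists_π0_eq (hx : (M.obj.map (face Y W 0).op).hom x = (M.obj.map (face Y W 1).op).hom x) :
    ∃ a, (π0 Y W M).hom a = x := by
  let hl := (FibDesc.incl (topAug Y)).op.isPointwiseRightKanExtensionRanCounit M.obj (op (baseT Y W))
  refine ⟨(hl.lift (cocycCone Y W M)).hom ⟨x, hx⟩, ?_⟩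
  refine (ConcreteCategory.congr_hom (hl.fac (cocycCone Y W M)
    (StructuredArrow.mk (Y := op ((nv Y W).obj (op ⦋0⦌))) (augP Y W (op ⦋0⦌)).op)) ⟨x, hx⟩).trans ?_
  show (M.obj.map (toNv Y W ((nv Y W).obj (op ⦋0⦌)) _ (vtx Y ((nv Y W).obj (op ⦋0⦌)) 0)).op).hom x = x
  rw [show toNv Y W ((nv Y W).obj (op ⦋0⦌)) (le_preY Y W _ (augP Y W (op ⦋0⦌)))
      (vtx Y ((nv Y W).obj (op ⦋0⦌)) 0) = 𝟙 _ from part_ext Y (Quiver.Hom.unop_inj (by
    ext k
    fin_cases k
    rfl)), op_id, M.obj.map_id]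
  rfl

end Lift

lemma π0_restrict {V : Opens (Y.obj (bot SimplexCategory))} (h : V ≤ W) :
    ((pushY Y).obj M).obj.map (homOfLE h : V ⟶ W).op ≫ π0 Y V M =
      π0 Y W M ≫ M.obj.map (homP Y (𝟙 (op ⦋0⦌)) (fun x hx => by
        show (Y.map ((toAug SimplexCategory).map (𝟙 (op ⦋0⦌)))) x ∈ preY Y _ W
        rw [(toAug SimplexCategory).map_id, Y.map_id]
        exact h hx) : (nv Y V).obj (op ⦋0⦌) ⟶ (nv Y W).obj (op ⦋0⦌)).op := by
  let k : (nv Y V).obj (op ⦋0⦌) ⟶ (nv Y W).obj (op ⦋0⦌) := homP Y (𝟙 (op ⦋0⦌)) (fun x hx => by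
    show (Y.map ((toAug SimplexCategory).map (𝟙 (op ⦋0⦌)))) x ∈ preY Y _ W
    rw [(toAug SimplexCategory).map_id, Y.map_id]
    exact h hx)
  show (ranM Y M).map ((eps (topAug Y)).map (homOfLE h : V ⟶ W)).op ≫ (ranM Y M).map (augP Y V (op ⦋0⦌)).op ≫ _ =
    π0 Y W M ≫ M.obj.map k.op
  rw [← Functor.map_comp_assoc, ← op_comp, π0, Category.assoc]
  refine Eq.trans ?_ (congrArg (_ ≫ ·) (((FibDesc.incl (topAug Y)).op.ranCounit.app M.obj).naturality k.op))
  refine Eq.trans ?_ (Category.assoc _ _ _)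
  refine congrArg (· ≫ _) ((congrArg (ranM Y M).map (congrArg Quiver.Hom.op ?_)).trans ((ranM Y M).map_comp _ _))
  exact (tot_ext Y (toBot_unique _ _) : _ = (FibDesc.incl (topAug Y)).map k ≫ augP Y W (op ⦋0⦌))

lemma π0_natural {M N : DS Y} (φ : M ⟶ N) :
    ((pushY Y).map φ).hom.app (op W) ≫ π0 Y W N = π0 Y W M ≫ φ.hom.app (op ((nv Y W).obj (op ⦋0⦌))) := by
  show ((FibDesc.incl (topAug Y)).op.ran.map φ.hom).app (op (baseT Y W)) ≫ (ranM Y N).map _ ≫ _ = _
  rw [← NatTrans.naturality_assoc, π0, Category.assoc]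
  exact congrArg (_ ≫ ·) (congrArg (fun t => t.app (op ((nv Y W).obj (op ⦋0⦌))))
    ((FibDesc.incl (topAug Y)).op.ranCounit.naturality φ.hom))

end Groth.Agent.CohDescTop
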