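import Groth.Agent.CohDescTop.Sites
import Groth.Agent.CohDescTop.Push
import Groth.Agent.SiteBase.DescentSS.Nerve

/-!
# Simplicial spaces inside the site of a family
-/

set_option autoImplicit false
set_option linter.unusedSectionVars false
set_option linter.style.haveILetI false
set_option backward.isDefEq.respectTransparency false
set_option backward.isDefEq.respectTransparency.types false

universe u

open CategoryTheory CategoryTheory.Limits Opposite Simplicial TopologicalSpace Pseudofunctor.CoGrothendieck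
open Groth.Agent.DescentSS

noncomputable section

namespace Groth.Agent.CohDescTop

section Over

variable (Y : (WithInitial SimplexCategory)ᵒᵖ ⥤ TopCat.{u})

/-- The map of spaces of a morphism. -/
def spFn {c d : Tot Y} (a : c ⟶ d) : (Opens.toTopCat _).obj (opT Y c) ⟶ (Opens.toTopCat _).obj (opT Y d) :=
  TopCat.ofHom ⟨fun x => ⟨Y.map a.base x.1, le_of_homT Y a x.2⟩,
    ((Y.map a.base).hom.continuous.comp continuous_subtype_val).subtype_mk _⟩

variable {S : TopCat.{u}} (a₀ : Y.obj (FibDesc.bot SimplexCategory) ⟶ S)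

/-- Objects as spaces over the base. -/
def spOver : Tot Y ⥤ Over S where
  obj c := Over.mk ((opT Y c).inclusion' ≫ gY Y c.base ≫ a₀)
  map {c d} a := Over.homMk (spFn Y a) (TopCat.hom_ext (ContinuousMap.ext fun x =>
    congrArg a₀ (ConcreteCategory.congr_hom (gY_w Y a.base) x.1)))
  map_id c := Over.OverMorphism.ext (TopCat.hom_ext (ContinuousMap.ext fun x => Subtype.ext (by
    show Y.map (𝟙 c.base) x.1 = x.1
    rw [Y.map_id]; rfl)))
  map_comp {c d e} a b := Over.OverMorphism.ext (TopCat.hom_ext (ContinuousMap.ext fun x => Subtype.ext (by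
    show Y.map (a.base ≫ b.base) x.1 = Y.map b.base (Y.map a.base x.1)
    rw [Y.map_comp]; rfl)))

end Over

variable {S : TopCat.{u}} {τ : Type u} (Z : τ → TopCat.{u}) (g : ∀ i, Z i ⟶ S)

/-- A map to a member whose fibre powers are members. -/
structure Chart where
  /-- The base member. -/
  o₀ : Option τ
  /-- The source. -/
  A : TopCat.{u}
  /-- The map. -/
  f : A ⟶ sp (S := S) Z o₀
  /-- The members of the fibre powers. -/
  e : ℕ → Option τ
  /-- Their identification. -/
  φ : ∀ p, sp (S := S) Z (e p) ≅ powX f p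
  φw : ∀ p, (φ p).hom ≫ powG f ⟨p⟩ ≫ str Z g o₀ = str Z g (e p)

namespace Chart

variable {Z g} (k : Chart Z g)

/-- The simplicial space. -/
abbrev Y : (WithInitial SimplexCategory)ᵒᵖ ⥤ TopCat.{u} := FibDesc.cechAug k.f

/-- The identification carries opens. -/
abbrev memOpen (p : ℕ) (U : Opens (powX k.f p)) : Opens (sp (S := S) Z (k.e p)) := (Opens.map (k.φ p).hom).obj U

/-- The object of the site. -/
def toSite (c : Tot k.Y) : Opn Z g :=
  match c with
  | ⟨⟨WithInitial.star⟩, U⟩ => mkObj Z g k.o₀ U
  | ⟨⟨WithInitial.of n⟩, U⟩ => mkObj Z g (k.e n.len) (k.memOpen n.len U)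

lemma hom_inv_apply (p : ℕ) (x : powX k.f p) : (k.φ p).hom ((k.φ p).inv x) = x :=
  ConcreteCategory.congr_hom (k.φ p).inv_hom_id x

lemma inv_hom_apply (p : ℕ) (x : sp (S := S) Z (k.e p)) : (k.φ p).inv ((k.φ p).hom x) = x :=
  ConcreteCategory.congr_hom (k.φ p).hom_inv_id x

lemma inv_mem (p : ℕ) (U : Opens (powX k.f p)) (x : U) : (k.φ p).inv x.1 ∈ k.memOpen p U := by
  show (k.φ p).hom ((k.φ p).inv x.1) ∈ U
  rw [hom_inv_apply]
  exact x.2

/-- The forward restricted identification. -/
def memTo (p : ℕ) (U : Opens (powX k.f p)) :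
    (Opens.toTopCat (sp (S := S) Z (k.e p))).obj (k.memOpen p U) ⟶ (Opens.toTopCat (powX k.f p)).obj U :=
  TopCat.ofHom ⟨fun x => ⟨(k.φ p).hom x.1, x.2⟩,
    ((k.φ p).hom.hom.continuous.comp continuous_subtype_val).subtype_mk _⟩

/-- The inverse restricted identification. -/
def memFrom (p : ℕ) (U : Opens (powX k.f p)) :
    (Opens.toTopCat (powX k.f p)).obj U ⟶ (Opens.toTopCat (sp (S := S) Z (k.e p))).obj (k.memOpen p U) :=
  TopCat.ofHom ⟨fun x => ⟨(k.φ p).inv x.1, k.inv_mem p U x⟩,
    ((k.φ p).inv.hom.continuous.comp continuous_subtype_val).subtype_mk _⟩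

/-- Restricted identification. -/
def memIso (p : ℕ) (U : Opens (powX k.f p)) :
    (Opens.toTopCat (sp (S := S) Z (k.e p))).obj (k.memOpen p U) ≅ (Opens.toTopCat (powX k.f p)).obj U :=
  ⟨k.memTo p U, k.memFrom p U,
    TopCat.hom_ext (ContinuousMap.ext fun x => Subtype.ext (k.inv_hom_apply p x.1)),
    TopCat.hom_ext (ContinuousMap.ext fun x => Subtype.ext (k.hom_inv_apply p x.1))⟩

/-- It is the same space over the base. -/
def toSiteIso (c : Tot k.Y) : ofOpen Z g (k.toSite c) ≅ (spOver k.Y (str Z g k.o₀)).obj c :=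
  match c with
  | ⟨⟨WithInitial.star⟩, _⟩ => Iso.refl _
  | ⟨⟨WithInitial.of n⟩, U⟩ => Over.isoMk (k.memIso n.len U)
      (TopCat.hom_ext (ContinuousMap.ext fun x => ConcreteCategory.congr_hom (k.φw n.len) x.1))

/-- The functor to the site. -/
def siteFun : Tot k.Y ⥤ Opn Z g where
  obj := k.toSite
  map {c d} a := InducedCategory.homMk
    ((k.toSiteIso c).hom ≫ (spOver k.Y (str Z g k.o₀)).map a ≫ (k.toSiteIso d).inv)
  map_id c := InducedCategory.hom_ext (by simp)
  map_comp a b := InducedCategory.hom_ext (by simp)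

lemma siteFun_ι_of (n : SimplexCategory) {U V : Opens ((k.Y).obj (op (WithInitial.of n)))} (h : V ≤ U) :
    k.siteFun.map ((ι (FibDesc.topAug k.Y) (op (WithInitial.of n))).map (homOfLE h : V ⟶ U)) =
      DescentSS.incl Z g (k.e n.len) (fun x hx => h hx : k.memOpen n.len V ≤ k.memOpen n.len U) :=
  opn_hom_ext Z g fun x => by
    show (k.φ n.len).inv ((k.Y).map (𝟙 (op (WithInitial.of n))) ((k.φ n.len).hom x.1)) = x.1
    rw [CategoryTheory.Functor.map_id]
    exact ConcreteCategory.congr_hom (k.φ n.len).hom_inv_id x.1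

lemma siteFun_ι_star {U V : Opens ((k.Y).obj (op WithInitial.star))} (h : V ≤ U) :
    k.siteFun.map ((ι (FibDesc.topAug k.Y) (op WithInitial.star)).map (homOfLE h : V ⟶ U)) =
      DescentSS.incl Z g k.o₀ h :=
  opn_hom_ext Z g fun x => by
    show (k.Y).map (𝟙 (op WithInitial.star)) x.1 = x.1
    rw [CategoryTheory.Functor.map_id]; rfl

instance isContinuous_siteFun :
    k.siteFun.IsContinuous (FibDesc.totAug (FibDesc.topAug k.Y) (FibDesc.topAugTop k.Y)) (covers Z g) :=
  (FibSiteLib.isContinuous_total_iff (isPreFibSite k.Y) _ _).2 fun i => by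
    rcases i with ⟨n | _⟩
    · let Φ : Opens ((k.Y).obj (op (WithInitial.of n))) ⥤ Opn Z g :=
        Opens.map (k.φ n.len).hom ⋙ opnFunctor Z g (k.e n.len)
      haveI : Φ.IsContinuous (Opens.grothendieckTopology _) (covers Z g) :=
        Functor.isContinuous_comp _ _ _ (Opens.grothendieckTopology _) _
      exact Functor.isContinuous_of_iso (NatIso.ofComponents (fun _ => Iso.refl _) (fun {U V} a =>
        ((Category.comp_id _).trans (k.siteFun_ι_of n a.le).symm).trans (Category.id_comp _).symm) :
          Φ ≅ ι (FibDesc.topAug k.Y) (op (WithInitial.of n)) ⋙ k.siteFun) _ _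
    · haveI : (opnFunctor Z g k.o₀).IsContinuous (FibDesc.topAugTop k.Y (op WithInitial.star)) (covers Z g) :=
        opnFunctor_isContinuous Z g k.o₀
      exact Functor.isContinuous_of_iso (NatIso.ofComponents (fun _ => Iso.refl _) (fun {U V} a =>
        ((Category.comp_id _).trans (k.siteFun_ι_star a.le).symm).trans (Category.id_comp _).symm) :
          opnFunctor Z g k.o₀ ≅ ι (FibDesc.topAug k.Y) (op WithInitial.star) ⋙ k.siteFun) _ _

instance isCocontinuous_siteFun :
    k.siteFun.IsCocontinuous (FibDesc.totAug (FibDesc.topAug k.Y) (FibDesc.topAugTop k.Y)) (covers Z g) where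
  cover_lift {c T} hT := by
    refine (FibSiteLib.mem_totalTopology_iff (isPreFibSite k.Y) _ _).2 ?_
    obtain ⟨i, U⟩ := c
    refine ⟨(T.functorPullback k.siteFun).functorPullback (ι (FibDesc.topAug k.Y) i), ?_, ?_⟩
    · rcases i with ⟨n | _⟩
      · intro x hx
        let U' : Opens (powX k.f n.len) := U
        have hx' : (k.φ n.len).hom ((k.φ n.len).inv x) = x := ConcreteCategory.congr_hom (k.φ n.len).inv_hom_id x
        obtain ⟨V, hV, hxV, hTV⟩ := (mem_covers Z g T).1 hT ((k.φ n.len).inv x) (by
          show (k.φ n.len).hom ((k.φ n.len).inv x) ∈ U'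
          rw [hx']; exact hx)
        let V' : Opens ((k.Y).obj (op (WithInitial.of n))) := (Opens.map (k.φ n.len).inv).obj V
        have hV' : V' ≤ U := fun y (hy : (k.φ n.len).inv y ∈ V) => by
          show y ∈ U'
          have h2 : (k.φ n.len).hom ((k.φ n.len).inv y) ∈ U' := hV hy
          rwa [show (k.φ n.len).hom ((k.φ n.len).inv y) = y from
            ConcreteCategory.congr_hom (k.φ n.len).inv_hom_id y] at h2
        refine ⟨V', (homOfLE hV' : V' ⟶ U), ?_, hxV⟩
        refine (congrArg (fun t => T.arrows t) (k.siteFun_ι_of n hV')).mpr ?_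
        have hle : k.memOpen n.len V' ≤ V := fun z (hz : (k.φ n.len).inv ((k.φ n.len).hom z) ∈ V) => by
          rwa [show (k.φ n.len).inv ((k.φ n.len).hom z) = z from
            ConcreteCategory.congr_hom (k.φ n.len).hom_inv_id z] at hz
        have e : DescentSS.incl Z g (k.e n.len) (fun x hx => hV' hx : k.memOpen n.len V' ≤ k.memOpen n.len U) =
            DescentSS.incl Z g (k.e n.len) hle ≫ DescentSS.incl Z g (k.e n.len) hV := opn_hom_ext Z g fun _ => rfl
        exact (congrArg (fun t => T.arrows t) e).mpr (T.downward_closed hTV _)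
      · intro x hx
        obtain ⟨V, hV, hxV, hTV⟩ := (mem_covers Z g T).1 hT x hx
        refine ⟨V, (homOfLE hV : (V : Opens ((k.Y).obj (op WithInitial.star))) ⟶ U), ?_, hxV⟩
        exact (congrArg (fun t => T.arrows t) (k.siteFun_ι_star hV)).mpr hTV
    · rintro W _ ⟨V, g', a, hg, rfl⟩
      exact (T.functorPullback k.siteFun).downward_closed hg a

/-- Restriction to the augmented simplicial space. -/
abbrev resTot : Sheaf (covers Z g) AddCommGrpCat.{u} ⥤
    FibSite.TotSh (FibDesc.topAug k.Y) (FibDesc.topAugTop k.Y) AddCommGrpCat.{u} :=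
  k.siteFun.sheafPushforwardContinuous AddCommGrpCat.{u} _ (covers Z g)

/-- Restriction to the base. -/
abbrev restrBot := FibSite.restr (FibDesc.topAug k.Y) (FibDesc.topAugTop k.Y) AddCommGrpCat.{u}
  (FibDesc.bot SimplexCategory)

/-- The initial structured arrow over an open of the base. -/
def initialArr (V : Opens S) : StructuredArrow (op (mkObj Z g none V)) k.siteFun.op :=
  StructuredArrow.mk (Y := op (obT k.Y (FibDesc.bot SimplexCategory) (DescentSS.pre Z g k.o₀ V)))
    (DescentSS.toBase Z g k.o₀ V).op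

lemma le_preY_site (c : Tot k.Y) (V : Opens S) (a : k.siteFun.obj c ⟶ mkObj Z g none V) :
    opT k.Y c ≤ (Opens.map (gY k.Y c.base ≫ str Z g k.o₀)).obj V :=
  match c, a with
  | ⟨⟨WithInitial.star⟩, _⟩, a => fun x hx => by
    show str Z g k.o₀ ((k.Y).map (toBot (op WithInitial.star)) x) ∈ V
    rw [show toBot (op WithInitial.star) = 𝟙 (FibDesc.bot SimplexCategory) from toBot_unique _ _,
      CategoryTheory.Functor.map_id]
    exact fn_base Z g a ⟨x, hx⟩
  | ⟨⟨WithInitial.of n⟩, _⟩, a => fun x hx => by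
    have hx' : (k.φ n.len).hom ((k.φ n.len).inv x) = x := ConcreteCategory.congr_hom (k.φ n.len).inv_hom_id x
    have h := fn_base Z g a ⟨(k.φ n.len).inv x, show (k.φ n.len).hom _ ∈ _ by rw [hx']; exact hx⟩
    show str Z g k.o₀ (powG k.f ⟨n.len⟩ x) ∈ V
    rw [← hx']
    exact (ConcreteCategory.congr_hom (k.φw n.len) ((k.φ n.len).inv x)).symm ▸ h

lemma base_hom_ext {c : Opn Z g} {V : Opens S} (a b : c ⟶ mkObj Z g none V) : a = b :=
  opn_hom_ext Z g fun x => (fn_w Z g a x).trans (fn_w Z g b x).symm

/-- It is initial. -/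
def isInitial_initialArr (V : Opens S) : IsInitial (k.initialArr V) :=
  IsInitial.ofUniqueHom
    (fun T => StructuredArrow.homMk
      (homT k.Y (toBot T.right.unop.base)
        (V := DescentSS.pre Z g k.o₀ V) (k.le_preY_site T.right.unop V T.hom.unop)).op
      (Quiver.Hom.unop_inj (base_hom_ext _ _)))
    (fun T m => StructuredArrow.hom_ext _ _
      (Quiver.Hom.unop_inj (tot_ext k.Y (toBot_unique (i := T.right.unop.base) _ _))))

/-- Right adjoint of the restriction. -/
abbrev resTotRight : FibSite.TotSh (FibDesc.topAug k.Y) (FibDesc.topAugTop k.Y) AddCommGrpCat.{u} ⥤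
    Sheaf (covers Z g) AddCommGrpCat.{u} :=
  k.siteFun.sheafPushforwardCocontinuous AddCommGrpCat.{u} _ (covers Z g)

/-- The counit over the opens of the base. -/
def botCmp : k.resTotRight ⋙ DescentSS.resTo Z g none ⟶ k.restrBot ⋙ CohTop.push (str Z g k.o₀) where
  app G := ⟨{
    app := fun V => ((k.resTotRight).obj G).obj.map (DescentSS.toBase Z g k.o₀ V.unop).op ≫
      ((k.siteFun.sheafAdjunctionCocontinuous AddCommGrpCat.{u} _ (covers Z g)).counit.app G).hom.app
        (op (obT k.Y (FibDesc.bot SimplexCategory) (DescentSS.pre Z g k.o₀ V.unop)))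
    naturality := fun V W a => by
      let c := ((k.siteFun.sheafAdjunctionCocontinuous AddCommGrpCat.{u} _ (covers Z g)).counit.app G).hom
      let R := ((k.resTotRight).obj G).obj
      let dV := obT k.Y (FibDesc.bot SimplexCategory) (DescentSS.pre Z g k.o₀ V.unop)
      let dW := obT k.Y (FibDesc.bot SimplexCategory) (DescentSS.pre Z g k.o₀ W.unop)
      let q : dW ⟶ dV := (ι (FibDesc.topAug k.Y) (FibDesc.bot SimplexCategory)).map
        ((Opens.map (str Z g k.o₀)).map a.unop)
      show R.map ((DescentSS.opnFunctor Z g none).map a.unop).op ≫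
          R.map (DescentSS.toBase Z g k.o₀ W.unop).op ≫ c.app (op dW) =
        (R.map (DescentSS.toBase Z g k.o₀ V.unop).op ≫ c.app (op dV)) ≫ G.obj.map q.op
      rw [← Functor.map_comp_assoc, ← op_comp, Category.assoc]
      refine Eq.trans ?_ (congrArg (_ ≫ ·) (c.naturality q.op))
      refine Eq.trans ?_ (Category.assoc _ _ _)
      refine congrArg (· ≫ c.app _) (Eq.trans ?_ (R.map_comp _ _))
      exact congrArg (fun t => R.map (Quiver.Hom.op t)) (base_hom_ext _ _) }⟩
  naturality G G' φ := by
    refine Sheaf.hom_ext (NatTrans.ext (funext fun V => ?_))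
    let adj := k.siteFun.sheafAdjunctionCocontinuous AddCommGrpCat.{u}
      (FibDesc.totAug (FibDesc.topAug k.Y) (FibDesc.topAugTop k.Y)) (covers Z g)
    show ((k.resTotRight).map φ).hom.app _ ≫ ((k.resTotRight).obj G').obj.map _ ≫ (adj.counit.app G').hom.app _ =
      (((k.resTotRight).obj G).obj.map _ ≫ (adj.counit.app G).hom.app _) ≫ φ.hom.app _
    rw [← NatTrans.naturality_assoc, Category.assoc]
    exact congrArg (_ ≫ ·) (congrArg (fun t => t.hom.app
      (op (obT k.Y (FibDesc.bot SimplexCategory) (DescentSS.pre Z g k.o₀ V.unop)))) (adj.counit.naturality φ))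

instance isIso_botCmp : IsIso k.botCmp := by
  have h : ∀ G, IsIso (k.botCmp.app G) := fun G => by
    have : ∀ V, IsIso ((k.botCmp.app G).hom.app V) := fun V => by
      have h := k.siteFun.op.isPointwiseRightKanExtensionRanCounit G.obj (op (mkObj Z g none V.unop))
      have h2 := h.isIso_π_app_of_isInitial (k.initialArr V.unop) (k.isInitial_initialArr V.unop)
      refine (show IsIso (((k.resTotRight).obj G).obj.map (DescentSS.toBase Z g k.o₀ V.unop).op ≫
        ((k.siteFun.sheafAdjunctionCocontinuous AddCommGrpCat.{u} _ (covers Z g)).counit.app G).hom.app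
          (op (obT k.Y (FibDesc.bot SimplexCategory) (DescentSS.pre Z g k.o₀ V.unop)))) from ?_)
      rw [Functor.sheafAdjunctionCocontinuous_counit_app_hom, Functor.ranAdjunction_counit]
      exact h2
    have : IsIso (k.botCmp.app G).hom := NatIso.isIso_of_isIso_app _
    have : IsIso ((sheafToPresheaf _ _).map (k.botCmp.app G)) := show IsIso (k.botCmp.app G).hom from this
    exact isIso_of_reflects_iso _ (sheafToPresheaf _ _)
  exact NatIso.isIso_of_isIso_app _

/-- Extension from the base member through the site. -/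
def extendIso : CohTop.pull (str Z g k.o₀) ⋙ FibSite.extend (FibDesc.topAug k.Y) (FibDesc.topAugTop k.Y)
      AddCommGrpCat.{u} (FibDesc.bot SimplexCategory) ≅ DescentSS.fromBase Z g ⋙ k.resTot :=
  Adjunction.leftAdjointUniq
    ((TopCat.Sheaf.pullbackPushforwardAdjunction AddCommGrpCat.{u} (str Z g k.o₀)).comp
      ((FibDesc.eps (FibDesc.topAug k.Y)).sheafAdjunctionContinuous AddCommGrpCat.{u}
        (FibDesc.topAugTop k.Y (FibDesc.bot SimplexCategory))
        (FibDesc.totAug (FibDesc.topAug k.Y) (FibDesc.topAugTop k.Y))))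
    ((((opnFunctor Z g none).sheafAdjunctionContinuous AddCommGrpCat.{u}
      (Opens.grothendieckTopology (sp (S := S) Z none)) (covers Z g)).comp
        (k.siteFun.sheafAdjunctionCocontinuous AddCommGrpCat.{u} _ (covers Z g))).ofNatIsoRight (asIso k.botCmp))

/-- The base member seen through the chart. -/
def restrBotIso : k.resTot ⋙ k.restrBot ≅ DescentSS.resTo Z g k.o₀ :=
  NatIso.ofComponents
    (fun G => (fullyFaithfulSheafToPresheaf _ _).preimageIso (NatIso.ofComponents (fun _ => Iso.refl _) (fun {U V} a => by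
      refine (Category.comp_id _).trans (Eq.trans ?_ (Category.id_comp _).symm)
      exact congrArg (fun t => G.obj.map (Quiver.Hom.op t)) (k.siteFun_ι_star
        (leOfHom (show (V.unop : Opens ((k.Y).obj (op WithInitial.star))) ⟶ U.unop from a.unop))))))
    (fun φ => Sheaf.hom_ext (NatTrans.ext (funext fun U => (Category.comp_id _).trans (Category.id_comp _).symm)))

/-- Restriction to the simplicial space. -/
abbrev resDS : Sheaf (covers Z g) AddCommGrpCat.{u} ⥤ DS k.Y :=
  k.resTot ⋙ (FibDesc.incl (FibDesc.topAug k.Y)).sheafPushforwardContinuous AddCommGrpCat.{u}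
    (FibDesc.totPart (FibDesc.topAug k.Y) (FibDesc.topAugTop k.Y)) (FibDesc.totAug (FibDesc.topAug k.Y) (FibDesc.topAugTop k.Y))

instance preservesFiniteLimits_resTot : PreservesFiniteLimits k.resTot :=
  haveI : PreservesLimitsOfSize.{0, 0} k.resTot :=
    (k.siteFun.sheafAdjunctionContinuous AddCommGrpCat.{u} _ (covers Z g)).rightAdjoint_preservesLimits
  inferInstance

instance preservesFiniteColimits_resTot : PreservesFiniteColimits k.resTot :=
  haveI : PreservesColimitsOfSize.{0, 0} k.resTot :=
    (k.siteFun.sheafAdjunctionCocontinuous AddCommGrpCat.{u} _ (covers Z g)).leftAdjoint_preservesColimits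
  inferInstance

instance preservesFiniteLimits_resDS : PreservesFiniteLimits k.resDS :=
  haveI : PreservesLimitsOfSize.{0, 0} ((FibDesc.incl (FibDesc.topAug k.Y)).sheafPushforwardContinuous
      AddCommGrpCat.{u} (FibDesc.totPart (FibDesc.topAug k.Y) (FibDesc.topAugTop k.Y))
      (FibDesc.totAug (FibDesc.topAug k.Y) (FibDesc.topAugTop k.Y))) :=
    ((FibDesc.incl (FibDesc.topAug k.Y)).sheafAdjunctionContinuous AddCommGrpCat.{u}
      (FibDesc.totPart _ _) (FibDesc.totAug _ _)).rightAdjoint_preservesLimits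
  comp_preservesFiniteLimits _ _

instance preservesFiniteColimits_resDS : PreservesFiniteColimits k.resDS :=
  haveI : PreservesColimitsOfSize.{0, 0} ((FibDesc.incl (FibDesc.topAug k.Y)).sheafPushforwardContinuous
      AddCommGrpCat.{u} (FibDesc.totPart (FibDesc.topAug k.Y) (FibDesc.topAugTop k.Y))
      (FibDesc.totAug (FibDesc.topAug k.Y) (FibDesc.topAugTop k.Y))) :=
    ((FibDesc.incl (FibDesc.topAug k.Y)).sheafAdjunctionCocontinuous AddCommGrpCat.{u}
      (FibDesc.totPart _ _) (FibDesc.totAug _ _)).leftAdjoint_preservesColimits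
  comp_preservesFiniteColimits _ _

instance additive_resDS : k.resDS.Additive where

/-- The nerve over an open of the base member. -/
abbrev nB (W : Opens (sp (S := S) Z k.o₀)) (p : ℕ) : Opn Z g :=
  k.siteFun.obj ((FibDesc.incl (FibDesc.topAug k.Y)).obj ((nv k.Y W).obj (op ⦋p⦌)))

end Chart

end Groth.Agent.CohDescTop
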