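import Mathlib.CategoryTheory.Abelian.RightDerived
import Mathlib.Algebra.Homology.ShortComplex.ExactFunctor
import Groth.Agent.SiteBase.LerayTop

/-!
# Comparing derived functors along a transformation
-/

set_option autoImplicit false
set_option linter.unusedSectionVars false
set_option backward.isDefEq.respectTransparency false

universe v v' u u'

open CategoryTheory CategoryTheory.Limits

noncomputable section

namespace Groth.Agent.CohDescTop

variable {A : Type u} [Category.{v} A] [Abelian A] {B : Type u'} [Category.{v'} B] [Abelian B]

/-- Exact functors commute with the maps in homology. -/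
lemma isIso_homologyMap_map_iff (E : A ⥤ B) [E.Additive] [PreservesFiniteLimits E] [PreservesFiniteColimits E]
    {K L : CochainComplex A ℕ} (φ : K ⟶ L) (q : ℕ) :
    IsIso (HomologicalComplex.homologyMap ((E.mapHomologicalComplex (ComplexShape.up ℕ)).map φ) q) ↔
      IsIso (E.map (HomologicalComplex.homologyMap φ q)) := by
  let φ' := (HomologicalComplex.shortComplexFunctor A (ComplexShape.up ℕ) q).map φ
  have e := ShortComplex.mapHomologyIso_hom_naturality φ' E
  show IsIso (ShortComplex.homologyMap (E.mapShortComplex.map φ')) ↔ IsIso (E.map (ShortComplex.homologyMap φ'))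
  constructor
  · intro h
    have : IsIso (((K.sc q).mapHomologyIso E).hom ≫ E.map (ShortComplex.homologyMap φ')) :=
      (congrArg (fun t => IsIso t) e).mp (IsIso.comp_isIso' h inferInstance)
    exact @IsIso.of_isIso_comp_left _ _ _ _ _ ((K.sc q).mapHomologyIso E).hom
      (E.map (ShortComplex.homologyMap φ')) inferInstance this
  · intro h
    have : IsIso (ShortComplex.homologyMap (E.mapShortComplex.map φ') ≫ ((L.sc q).mapHomologyIso E).hom) :=
      (congrArg (fun t => IsIso t) e).mpr (IsIso.comp_isIso' inferInstance h)
    exact @IsIso.of_isIso_comp_right _ _ _ _ _ (ShortComplex.homologyMap (E.mapShortComplex.map φ'))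
      ((L.sc q).mapHomologyIso E).hom inferInstance this

/-- A map in homology between images of one complex, as a map of derived functors. -/
lemma isIso_homologyMap_app_iff [HasInjectiveResolutions A] {F G : A ⥤ B} [F.Additive] [G.Additive]
    (α : F ⟶ G) {X : A} (R : InjectiveResolution X) (q : ℕ) :
    IsIso (HomologicalComplex.homologyMap
      ((NatTrans.mapHomologicalComplex α (ComplexShape.up ℕ)).app R.cocomplex) q) ↔
      IsIso ((NatTrans.rightDerived α q).app X) := by
  rw [InjectiveResolution.rightDerived_app_eq α R q]
  exact ⟨fun h => @IsIso.comp_isIso _ _ _ _ _ _ _ inferInstance (@IsIso.comp_isIso _ _ _ _ _ _ _ h inferInstance),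
    fun h => @IsIso.of_isIso_comp_right _ _ _ _ _ _ (R.isoRightDerivedObj G q).inv inferInstance
      (@IsIso.of_isIso_comp_left _ _ _ _ _ (R.isoRightDerivedObj F q).hom _ inferInstance h)⟩

/-- In degree zero one finds the transformation. -/
lemma isIso_homologyMap_zero_iff {F G : A ⥤ B} [F.Additive] [G.Additive] [PreservesFiniteLimits F]
    [PreservesFiniteLimits G] (α : F ⟶ G) {X : A} (R : InjectiveResolution X) :
    IsIso (HomologicalComplex.homologyMap
      ((NatTrans.mapHomologicalComplex α (ComplexShape.up ℕ)).app R.cocomplex) 0) ↔ IsIso (α.app X) := by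
  let φ := (NatTrans.mapHomologicalComplex α (ComplexShape.up ℕ)).app R.cocomplex
  let tF := R.toRightDerivedZero' F ≫ ((F.mapHomologicalComplex _).obj R.cocomplex).homologyπ 0
  let tG := R.toRightDerivedZero' G ≫ ((G.mapHomologicalComplex _).obj R.cocomplex).homologyπ 0
  have h : α.app X ≫ tG = tF ≫ HomologicalComplex.homologyMap φ 0 := by
    simp only [tF, tG, Category.assoc, HomologicalComplex.homologyπ_naturality]
    rw [← Category.assoc, ← Category.assoc]
    congr 1
    rw [← cancel_mono (((G.mapHomologicalComplex _).obj R.cocomplex).iCycles 0), Category.assoc, Category.assoc,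
      InjectiveResolution.toRightDerivedZero'_comp_iCycles, HomologicalComplex.cyclesMap_i,
      InjectiveResolution.toRightDerivedZero'_comp_iCycles_assoc]
    exact (α.naturality (R.ι.f 0)).symm
  have : IsIso tF := inferInstance
  have : IsIso tG := inferInstance
  constructor
  · intro hi
    exact @IsIso.of_isIso_comp_right _ _ _ _ _ (α.app X) tG inferInstance (h ▸ inferInstance)
  · intro hi
    exact @IsIso.of_isIso_comp_left _ _ _ _ _ tF _ inferInstance (h ▸ inferInstance)

/-- A transformation from an exact functor to a left exact one on an injective resolution. -/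
theorem forall_isIso_homologyMap_iff [HasInjectiveResolutions A] {F G : A ⥤ B} [F.Additive] [G.Additive]
    [PreservesFiniteLimits F] [PreservesFiniteColimits F] [PreservesFiniteLimits G]
    (α : F ⟶ G) {X : A} (R : InjectiveResolution X) :
    (∀ q, IsIso (HomologicalComplex.homologyMap
      ((NatTrans.mapHomologicalComplex α (ComplexShape.up ℕ)).app R.cocomplex) q)) ↔
      IsIso (α.app X) ∧ ∀ q, IsZero ((G.rightDerived (q + 1)).obj X) := by
  refine ⟨fun h => ⟨(isIso_homologyMap_zero_iff α R).1 (h 0), fun q => ?_⟩, fun h q => ?_⟩
  · have := (isIso_homologyMap_app_iff α R (q + 1)).1 (h (q + 1))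
    exact (LerayDegen.isZero_rightDerived_of_exact F X q).of_iso (asIso ((NatTrans.rightDerived α (q + 1)).app X)).symm
  · rcases q with _ | q
    · exact (isIso_homologyMap_zero_iff α R).2 h.1
    · refine (isIso_homologyMap_app_iff α R (q + 1)).2 ?_
      exact ⟨0, (LerayDegen.isZero_rightDerived_of_exact F X q).eq_of_src _ _, (h.2 q).eq_of_src _ _⟩

end Groth.Agent.CohDescTop
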