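import Mathlib.CategoryTheory.Sites.CoverLifting
import Mathlib.CategoryTheory.Sites.CoverPreserving
import Mathlib.CategoryTheory.Sites.Pullback
import Mathlib.CategoryTheory.Adjunction.Additive
import Mathlib.CategoryTheory.Functor.KanExtension.Adjunction
import Mathlib.CategoryTheory.Preadditive.Injective.Preserves
import Mathlib.CategoryTheory.Sites.PreservesSheafification
import Mathlib.CategoryTheory.ObjectProperty.FullSubcategory
import Mathlib.Algebra.Category.Grp.Limits
import Mathlib.Algebra.Category.Grp.FilteredColimits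
import Mathlib.Algebra.Category.Grp.AB
import Mathlib.CategoryTheory.Sites.Abelian
import Mathlib.CategoryTheory.Abelian.Exact
import Mathlib.CategoryTheory.Preadditive.AdditiveFunctor
import Mathlib.CategoryTheory.Preadditive.Injective.Basic

/-!
# The open subtopos of a downward closed class of objects
-/

set_option autoImplicit false
set_option linter.unusedSectionVars false
set_option linter.style.haveILetI false
set_option backward.isDefEq.respectTransparency false
set_option backward.isDefEq.respectTransparency.types false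

universe u

open CategoryTheory CategoryTheory.Limits Opposite

noncomputable section

namespace Groth.Agent.CohDescTop

variable {C : Type u} [SmallCategory C] (J : GrothendieckTopology C) (P : ObjectProperty C)

/-- Closed under passing to sources. -/
class IsDownClosed : Prop where
  down : ∀ {c d : C}, (c ⟶ d) → P d → P c

variable [hP : IsDownClosed P]

/-- The objects of the class. -/
abbrev Sub : Type u := P.FullSubcategory

lemma pushforward_arrows {x : Sub P} (T : Sieve x) {c : C} (a : c ⟶ x.obj) :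
    (T.functorPushforward P.ι).arrows a ↔ T.arrows (ObjectProperty.homMk a : (⟨c, hP.down a x.2⟩ : Sub P) ⟶ x) := by
  constructor
  · rintro ⟨y, g, k, hg, e⟩
    let k' : (⟨c, hP.down a x.2⟩ : Sub P) ⟶ y := ObjectProperty.homMk k
    have : (ObjectProperty.homMk a : (⟨c, hP.down a x.2⟩ : Sub P) ⟶ x) = k' ≫ g :=
      ObjectProperty.hom_ext _ e
    rw [this]
    exact T.downward_closed hg k'
  · intro h
    exact ⟨_, _, 𝟙 _, h, (Category.id_comp _).symm⟩

/-- The topology on the objects of the class. -/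
def subTop : GrothendieckTopology (Sub P) where
  sieves x := {T | T.functorPushforward P.ι ∈ J x.obj}
  top_mem' x := J.superset_covering (fun c a _ => (pushforward_arrows P ⊤ a).2 trivial) (J.top_mem _)
  pullback_stable' x y T h hT := by
    refine J.superset_covering (fun c a ha => ?_) (J.pullback_stable h.hom hT)
    exact (pushforward_arrows P (T.pullback h) a).2 ((pushforward_arrows P T (a ≫ h.hom)).1 ha)
  transitive' x T hT T₁ h := by
    refine J.transitive hT _ fun c a ha => ?_
    let a' : (⟨c, hP.down a x.2⟩ : Sub P) ⟶ x := ObjectProperty.homMk a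
    refine J.superset_covering (fun c' b hb => ?_) (h (f := a') ((pushforward_arrows P T a).1 ha))
    exact (pushforward_arrows P T₁ (b ≫ a)).2 ((pushforward_arrows P (T₁.pullback a') b).1 hb)

instance isCocontinuous_ι : P.ι.IsCocontinuous (subTop J P) J where
  cover_lift {x T} hT :=
    J.superset_covering (fun c a ha => (pushforward_arrows P (T.functorPullback P.ι) a).2 ha) hT

instance isContinuous_ι : P.ι.IsContinuous (subTop J P) J :=
  Functor.isContinuous_of_coverPreserving
    { compatible := fun ℱ {Z T x} hx {Y₁ Y₂ W} f₁ f₂ {g₁ g₂} hg₁ hg₂ e => by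
        let W' : Sub P := ⟨W, hP.down f₁ Y₁.2⟩
        exact hx (ObjectProperty.homMk f₁ : W' ⟶ Y₁) (ObjectProperty.homMk f₂ : W' ⟶ Y₂) hg₁ hg₂
          (ObjectProperty.hom_ext _ e) }
    ⟨fun {x T} hT => hT⟩

/-- Restriction to the class. -/
abbrev restP : Sheaf J AddCommGrpCat.{u} ⥤ Sheaf (subTop J P) AddCommGrpCat.{u} :=
  P.ι.sheafPushforwardContinuous AddCommGrpCat.{u} (subTop J P) J

/-- Its right adjoint. -/
abbrev extP : Sheaf (subTop J P) AddCommGrpCat.{u} ⥤ Sheaf J AddCommGrpCat.{u} :=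
  P.ι.sheafPushforwardCocontinuous AddCommGrpCat.{u} (subTop J P) J

/-- The localization at the class. -/
abbrev loc : Sheaf J AddCommGrpCat.{u} ⥤ Sheaf J AddCommGrpCat.{u} := restP J P ⋙ extP J P

/-- The unit of the localization. -/
abbrev toLoc : 𝟭 (Sheaf J AddCommGrpCat.{u}) ⟶ loc J P :=
  (P.ι.sheafAdjunctionCocontinuous AddCommGrpCat.{u} (subTop J P) J).unit

instance preservesFiniteLimits_restP : PreservesFiniteLimits (restP J P) :=
  haveI : PreservesLimitsOfSize.{0, 0} (restP J P) :=
    (P.ι.sheafAdjunctionContinuous AddCommGrpCat.{u} (subTop J P) J).rightAdjoint_preservesLimits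
  inferInstance

instance preservesFiniteColimits_restP : PreservesFiniteColimits (restP J P) :=
  haveI : PreservesColimitsOfSize.{0, 0} (restP J P) :=
    (P.ι.sheafAdjunctionCocontinuous AddCommGrpCat.{u} (subTop J P) J).leftAdjoint_preservesColimits
  inferInstance

instance additive_restP : (restP J P).Additive where

instance additive_extP : (extP J P).Additive :=
  (P.ι.sheafAdjunctionCocontinuous AddCommGrpCat.{u} (subTop J P) J).right_adjoint_additive

instance preservesFiniteLimits_loc : PreservesFiniteLimits (loc J P) :=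
  haveI : PreservesLimitsOfSize.{0, 0} (extP J P) :=
    (P.ι.sheafAdjunctionCocontinuous AddCommGrpCat.{u} (subTop J P) J).rightAdjoint_preservesLimits
  haveI : PreservesFiniteLimits (extP J P) := inferInstance
  comp_preservesFiniteLimits _ _

instance additive_loc : (loc J P).Additive where
  map_add {M N a b} := ((extP J P).congr_map (restP J P).map_add).trans (extP J P).map_add

/-- Extension by zero is exact. -/
lemma mono_lan_map {A B : (Sub P)ᵒᵖ ⥤ AddCommGrpCat.{u}} (φ : A ⟶ B) [Mono φ] : Mono (P.ι.op.lan.map φ) := by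
  have : ∀ T, Mono ((P.ι.op.lan.map φ).app T) := fun ⟨T⟩ => by
    by_cases hT : P T
    · let x : (Sub P)ᵒᵖ := op ⟨T, hT⟩
      have e := congrArg (fun t => t.app x) (P.ι.op.lanUnit.naturality φ)
      have : IsIso ((P.ι.op.lanUnit.app A).app x) := inferInstance
      have : IsIso ((P.ι.op.lanUnit.app B).app x) := inferInstance
      have h : (P.ι.op.lan.map φ).app (op T) =
          inv ((P.ι.op.lanUnit.app A).app x) ≫ φ.app x ≫ (P.ι.op.lanUnit.app B).app x := by
        rw [IsIso.eq_inv_comp]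
        exact e.symm
      rw [h]
      infer_instance
    · have hz : IsZero ((P.ι.op.lan.obj A).obj (op T)) := by
        rw [IsZero.iff_id_eq_zero]
        exact (P.ι.op.isPointwiseLeftKanExtensionLeftKanExtensionUnit A (op T)).hom_ext
          fun k => absurd (hP.down k.hom.unop k.left.unop.2) hT
      exact Preadditive.mono_of_cancel_zero _ fun g _ => hz.eq_of_tgt _ _
  exact NatTrans.mono_of_mono_app _

theorem injective_restP_obj (I : Sheaf J AddCommGrpCat.{u}) [Injective I] : Injective ((restP J P).obj I) := by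
  have hm : (P.ι.sheafPullback AddCommGrpCat.{u} (subTop J P) J).PreservesMonomorphisms := by
    have e := Functor.sheafPullbackConstruction.sheafPullbackIso P.ι AddCommGrpCat.{u} (subTop J P) J
    refine (Functor.preservesMonomorphisms.iso_iff e).2 ⟨fun {A B} φ _ => ?_⟩
    have : Mono φ.hom := inferInstanceAs (Mono ((sheafToPresheaf _ _).map φ))
    have := mono_lan_map P φ.hom
    exact (presheafToSheaf J AddCommGrpCat.{u}).map_mono (P.ι.op.lan.map φ.hom)
  exact (P.ι.sheafAdjunctionContinuous AddCommGrpCat.{u} (subTop J P) J).map_injective I ‹_›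

theorem injective_loc_obj (I : Sheaf J AddCommGrpCat.{u}) [Injective I] : Injective ((loc J P).obj I) :=
  haveI := injective_restP_obj J P I
  (P.ι.sheafAdjunctionCocontinuous AddCommGrpCat.{u} (subTop J P) J).map_injective _ this

variable {J P} (M : Sheaf J AddCommGrpCat.{u})

/-- The value of a section of the localization at an arrow from the class. -/
def val {T : C} (x : ((loc J P).obj M).obj.obj (op T)) {T' : C} (hT' : P T') (a : T' ⟶ T) :
    M.obj.obj (op T') :=
  ((P.ι.op.ranCounit.app (P.ι.op ⋙ M.obj)).app (op ⟨T', hT'⟩)).hom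
    (((P.ι.op.ran.obj (P.ι.op ⋙ M.obj)).map a.op).hom x)

lemma val_map {T T₁ : C} (h : T₁ ⟶ T) (x : ((loc J P).obj M).obj.obj (op T)) {T' : C} (hT' : P T')
    (a : T' ⟶ T₁) : val M ((((loc J P).obj M).obj.map h.op).hom x) hT' a = val M x hT' (a ≫ h) := by
  let R := P.ι.op.ran.obj (P.ι.op ⋙ M.obj)
  refine congrArg ((P.ι.op.ranCounit.app (P.ι.op ⋙ M.obj)).app (op ⟨T', hT'⟩)).hom ?_
  exact (ConcreteCategory.congr_hom (R.map_comp h.op a.op) x).symm

lemma val_comp {T : C} (x : ((loc J P).obj M).obj.obj (op T)) {T' T'' : C} (hT' : P T') (hT'' : P T'')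
    (b : T'' ⟶ T') (a : T' ⟶ T) :
    (M.obj.map b.op).hom (val M x hT' a) = val M x hT'' (b ≫ a) := by
  let c := P.ι.op.ranCounit.app (P.ι.op ⋙ M.obj)
  let R := P.ι.op.ran.obj (P.ι.op ⋙ M.obj)
  let b' : (⟨T'', hT''⟩ : Sub P) ⟶ ⟨T', hT'⟩ := ObjectProperty.homMk b
  refine (ConcreteCategory.congr_hom (c.naturality b'.op) ((R.map a.op).hom x)).symm.trans ?_
  refine congrArg (c.app (op ⟨T'', hT''⟩)).hom ?_
  exact (ConcreteCategory.congr_hom (R.map_comp a.op b.op) x).symm

lemma ext_val {T : C} {x y : ((loc J P).obj M).obj.obj (op T)}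
    (h : ∀ {T' : C} (hT' : P T') (a : T' ⟶ T), val M x hT' a = val M y hT' a) : x = y :=
  Concrete.isLimit_ext _ (P.ι.op.isPointwiseRightKanExtensionRanCounit (P.ι.op ⋙ M.obj) (op T)) x y
    fun k => h k.right.unop.2 k.hom.unop

theorem exists_val {T : C} (y : ∀ (T' : C), P T' → (T' ⟶ T) → M.obj.obj (op T'))
    (hy : ∀ (T' T'' : C) (hT' : P T') (hT'' : P T'') (b : T'' ⟶ T') (a : T' ⟶ T),
      (M.obj.map b.op).hom (y T' hT' a) = y T'' hT'' (b ≫ a)) :
    ∃ x : ((loc J P).obj M).obj.obj (op T), ∀ (T' : C) (hT' : P T') (a : T' ⟶ T), val M x hT' a = y T' hT' a := by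
  let F := StructuredArrow.proj (op T) P.ι.op ⋙ P.ι.op ⋙ M.obj
  let c : Cone F :=
    { pt := AddCommGrpCat.of (ULift.{u} ℤ)
      π :=
        { app := fun k => AddCommGrpCat.ofHom ((zmultiplesHom _ (y k.right.unop.obj k.right.unop.2 k.hom.unop)).comp
            AddEquiv.ulift.toAddMonoidHom)
          naturality := fun k k' φ => by
            refine AddCommGrpCat.hom_ext (AddMonoidHom.ext fun n => ?_)
            show n.down • y _ k'.right.unop.2 k'.hom.unop =
              (M.obj.map φ.right.unop.hom.op).hom (n.down • y _ k.right.unop.2 k.hom.unop)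
            rw [map_zsmul, hy _ _ k.right.unop.2 k'.right.unop.2]
            have e : φ.right.unop.hom ≫ k.hom.unop = k'.hom.unop :=
              congrArg Quiver.Hom.unop (StructuredArrow.w φ)
            rw [e] } }
  refine ⟨((P.ι.op.isPointwiseRightKanExtensionRanCounit (P.ι.op ⋙ M.obj) (op T)).lift c).hom ⟨1⟩,
    fun T' hT' a => ?_⟩
  refine (ConcreteCategory.congr_hom ((P.ι.op.isPointwiseRightKanExtensionRanCounit (P.ι.op ⋙ M.obj) (op T)).fac c
    (StructuredArrow.mk (Y := op (⟨T', hT'⟩ : Sub P)) a.op)) ⟨1⟩).trans ?_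
  show (1 : ℤ) • y T' hT' a = _
  exact one_smul ℤ _

lemma val_toLoc {T : C} (x : M.obj.obj (op T)) {T' : C} (hT' : P T') (a : T' ⟶ T) :
    val M (((((toLoc J P).app M)).hom.app (op T)).hom x) hT' a = (M.obj.map a.op).hom x := by
  let adj := P.ι.sheafAdjunctionCocontinuous AddCommGrpCat.{u} (subTop J P) J
  refine (congrArg ((P.ι.op.ranCounit.app (P.ι.op ⋙ M.obj)).app (op ⟨T', hT'⟩)).hom
    (ConcreteCategory.congr_hom (((toLoc J P).app M).hom.naturality a.op) x).symm).trans ?_
  have h := congrArg (fun t => t.hom.app (op (⟨T', hT'⟩ : Sub P))) (adj.left_triangle_components M)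
  have h2 : ((toLoc J P).app M).hom.app (op T') ≫
      (P.ι.op.ranCounit.app (P.ι.op ⋙ M.obj)).app (op ⟨T', hT'⟩) = 𝟙 _ := by
    refine Eq.trans ?_ h
    show _ = ((adj.unit.app M).hom.app (op T')) ≫ (adj.counit.app ((restP J P).obj M)).hom.app (op ⟨T', hT'⟩)
    rw [Functor.sheafAdjunctionCocontinuous_counit_app_hom, Functor.ranAdjunction_counit]
    rfl
  exact ConcreteCategory.congr_hom h2 _

lemma val_locMap {N : Sheaf J AddCommGrpCat.{u}} (φ : M ⟶ N) {T : C}
    (x : ((loc J P).obj M).obj.obj (op T)) {T' : C} (hT' : P T') (a : T' ⟶ T) :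
    val N ((((loc J P).map φ).hom.app (op T)).hom x) hT' a = (φ.hom.app (op T')).hom (val M x hT' a) := by
  let w := Functor.whiskerLeft P.ι.op φ.hom
  refine (congrArg ((P.ι.op.ranCounit.app (P.ι.op ⋙ N.obj)).app (op ⟨T', hT'⟩)).hom
    (ConcreteCategory.congr_hom ((P.ι.op.ran.map w).naturality a.op) x).symm).trans ?_
  exact ConcreteCategory.congr_hom (congrArg (fun t => t.app (op (⟨T', hT'⟩ : Sub P)))
    (P.ι.op.ranCounit.naturality w)) _

/-- Bijectivity at an object. -/
abbrev BijAt {M N : Sheaf J AddCommGrpCat.{u}} (φ : M ⟶ N) (T : C) : Prop :=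
  Function.Bijective (φ.hom.app (op T)).hom

theorem bijAt_toLoc {T : C} (hT : P T) : BijAt ((toLoc J P).app M) T := by
  refine ⟨fun x y h => ?_, fun z => ⟨val M z hT (𝟙 T), ext_val M fun hT' a => ?_⟩⟩
  · have e := ((val_toLoc M x hT (𝟙 T)).symm.trans (congrArg (fun z => val M z hT (𝟙 T)) h)).trans
      (val_toLoc M y hT (𝟙 T))
    exact ((ConcreteCategory.congr_hom (M.obj.map_id (op T)) x).symm.trans e).trans
      (ConcreteCategory.congr_hom (M.obj.map_id (op T)) y)
  · rw [val_toLoc, val_comp M z hT hT' a (𝟙 T), Category.comp_id]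

/-- The localization only depends on the class. -/
theorem bijAt_locMap {N : Sheaf J AddCommGrpCat.{u}} (φ : M ⟶ N) {T : C}
    (h : ∀ T', P T' → (T' ⟶ T) → BijAt φ T') : BijAt ((loc J P).map φ) T := by
  refine ⟨fun x y e => ext_val M fun {T'} hT' a => (h T' hT' a).1 ?_, fun z => ?_⟩
  · rw [← val_locMap, ← val_locMap]
    exact congrArg (fun t => val N t hT' a) e
  · choose y hy using fun T' (hT' : P T') (a : T' ⟶ T) => (h T' hT' a).2 (val N z hT' a)
    obtain ⟨x, hx⟩ := exists_val M y fun T' T'' hT' hT'' b a => (h T'' hT'' (b ≫ a)).1 (by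
      rw [hy, ← val_comp N z hT' hT'' b a, ← hy T' hT' a]
      exact ConcreteCategory.congr_hom (φ.hom.naturality b.op) _)
    exact ⟨x, ext_val N fun {T'} hT' a => by rw [val_locMap, hx, hy]⟩

section Two

variable (Q : ObjectProperty C) [hQ : IsDownClosed Q]

/-- Localizing twice gives a local sheaf for both classes. -/
theorem bijAt_toLoc_loc_loc (T : C) :
    BijAt ((toLoc J P).app ((loc J Q).obj ((loc J P).obj M))) T := by
  let N := (loc J P).obj M
  refine ⟨fun x y e => ext_val N fun {T'} hT' a => ext_val M fun {T''} hT'' b => ?_, fun z => ?_⟩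
  · have e' : val ((loc J Q).obj N) ((((toLoc J P).app ((loc J Q).obj N)).hom.app (op T)).hom x) hT'' (b ≫ a) =
        val ((loc J Q).obj N) ((((toLoc J P).app ((loc J Q).obj N)).hom.app (op T)).hom y) hT'' (b ≫ a) :=
      congrArg (fun t => val ((loc J Q).obj N) t hT'' (b ≫ a)) e
    rw [val_toLoc, val_toLoc] at e'
    have hQ'' := hQ.down b hT'
    have k : ∀ w : ((loc J Q).obj N).obj.obj (op T), val M (val N w hT' a) hT'' b =
        val M (val N ((((loc J Q).obj N).obj.map (b ≫ a).op).hom w) hQ'' (𝟙 T'')) hT'' (𝟙 T'') := fun w => by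
      rw [val_map, Category.id_comp, ← val_comp N w hT' hQ'' b a, val_map, Category.id_comp]
    rw [k x, k y, e']
  · let L := (loc J Q).obj N
    let γ : ∀ (T'' : C), P T'' → Q T'' → (T'' ⟶ T) → M.obj.obj (op T'') := fun T'' hP'' hQ'' a =>
      val M (val N (val L z hP'' a) hQ'' (𝟙 T'')) hP'' (𝟙 T'')
    have hγ : ∀ (T'' T₃ : C) (hP'' : P T'') (hP₃ : P T₃) (hQ'' : Q T'') (hQ₃ : Q T₃) (c : T₃ ⟶ T'') (a : T'' ⟶ T),
        (M.obj.map c.op).hom (γ T'' hP'' hQ'' a) = γ T₃ hP₃ hQ₃ (c ≫ a) := fun T'' T₃ hP'' hP₃ hQ'' hQ₃ c a =>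
      calc (M.obj.map c.op).hom (γ T'' hP'' hQ'' a)
          = val M (val N (val L z hP'' a) hQ'' (𝟙 T'')) hP₃ (c ≫ 𝟙 T'') := val_comp M _ hP'' hP₃ c (𝟙 T'')
        _ = val M ((N.obj.map c.op).hom (val N (val L z hP'' a) hQ'' (𝟙 T''))) hP₃ (𝟙 T₃) := by
          rw [val_map, Category.id_comp, Category.comp_id]
        _ = val M (val N ((L.obj.map c.op).hom (val L z hP'' a)) hQ₃ (𝟙 T₃)) hP₃ (𝟙 T₃) := by
          rw [val_comp N _ hQ'' hQ₃ c (𝟙 T''), val_map, Category.comp_id, Category.id_comp]
        _ = γ T₃ hP₃ hQ₃ (c ≫ a) := by rw [val_comp L z hP'' hP₃ c a]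
    choose n hn using fun T' (hT' : Q T') (a : T' ⟶ T) =>
      exists_val M (fun T'' hP'' (b : T'' ⟶ T') => γ T'' hP'' (hQ.down b hT') (b ≫ a))
        (fun T'' T₃ hP'' hP₃ c b => by rw [hγ T'' T₃ hP'' hP₃ _ (hQ.down (c ≫ b) hT'), Category.assoc])
    obtain ⟨x, hx⟩ := exists_val N n (fun T' T'' hT' hT'' b a => ext_val M fun {T₃} hT₃ c => by
      rw [val_map, hn, hn]
      show γ T₃ hT₃ _ ((c ≫ b) ≫ a) = γ T₃ hT₃ _ (c ≫ b ≫ a)
      rw [Category.assoc])
    refine ⟨x, ext_val L fun {T'} hT' a => ?_⟩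
    rw [val_toLoc]
    refine ext_val N fun {T''} hQ'' b => ?_
    rw [val_map, hx]
    refine ext_val M fun {T₃} hT₃ c => ?_
    rw [hn]
    calc γ T₃ hT₃ (hQ.down c hQ'') (c ≫ b ≫ a)
        = val M (val N ((L.obj.map (c ≫ b).op).hom (val L z hT' a)) (hQ.down c hQ'') (𝟙 T₃)) hT₃ (𝟙 T₃) := by
          rw [val_comp L z hT' hT₃ (c ≫ b) a, Category.assoc]
      _ = val M ((N.obj.map c.op).hom (val N (val L z hT' a) hQ'' b)) hT₃ (𝟙 T₃) := by
          rw [val_map N (c ≫ b), val_comp N _ hQ'' (hQ.down c hQ'') c b, Category.id_comp]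
      _ = val M (val N (val L z hT' a) hQ'' b) hT₃ c := by rw [val_map, Category.id_comp]

end Two

end Groth.Agent.CohDescTop
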