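import Groth.Agent.CohDescTop.Push
import Groth.Agent.SiteBase.DerivedPrecompAcyclic
import Groth.Agent.SiteBase.LerayTop
import Mathlib.CategoryTheory.Adjunction.FullyFaithful
import Mathlib.CategoryTheory.Monad.Adjunction

/-!
# The unit of the augmentation, in two steps
-/

set_option autoImplicit false
set_option linter.unusedSectionVars false
set_option linter.style.haveILetI false
set_option backward.isDefEq.respectTransparency false
set_option backward.isDefEq.respectTransparency.types false

universe u

open CategoryTheory CategoryTheory.Limits Opposite Simplicial TopologicalSpace Pseudofunctor.CoGrothendieck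

noncomputable section

namespace Groth.Agent.CohDescTop

open FibDesc

variable (Y : (WithInitial SimplexCategory)ᵒᵖ ⥤ TopCat.{u})

/-- Restriction to the base point. -/
abbrev restrY := FibSite.restr (topAug Y) (topAugTop Y) AddCommGrpCat.{u} (bot SimplexCategory)

/-- Restriction to the part. -/
abbrev resPartY := (FibDesc.incl (topAug Y)).sheafPushforwardContinuous AddCommGrpCat.{u}
  (totPart (topAug Y) (topAugTop Y)) (totAug (topAug Y) (topAugTop Y))

/-- Sections of the base seen in the direct image. -/
def baseToPush : restrY Y ⟶ resPartY Y ⋙ pushY Y where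
  app G := (restrY Y).map (((FibDesc.incl (topAug Y)).sheafAdjunctionCocontinuous AddCommGrpCat.{u}
    (totPart (topAug Y) (topAugTop Y)) (totAug (topAug Y) (topAugTop Y))).unit.app G)
  naturality G G' φ := by
    refine ((restrY Y).map_comp _ _).symm.trans (Eq.trans ?_ ((restrY Y).map_comp _ _))
    exact congrArg (restrY Y).map (((FibDesc.incl (topAug Y)).sheafAdjunctionCocontinuous AddCommGrpCat.{u}
      (totPart (topAug Y) (topAugTop Y)) (totAug (topAug Y) (topAugTop Y))).unit.naturality φ)

lemma π0_baseToPush (G : FibSite.TotSh (topAug Y) (topAugTop Y) AddCommGrpCat.{u})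
    (W : Opens (Y.obj (bot SimplexCategory))) :
    ((baseToPush Y).app G).hom.app (op W) ≫ π0 Y W ((resPartY Y).obj G) =
      G.obj.map (augP Y W (op ⦋0⦌)).op := by
  let adj := (FibDesc.incl (topAug Y)).sheafAdjunctionCocontinuous AddCommGrpCat.{u}
    (totPart (topAug Y) (topAugTop Y)) (totAug (topAug Y) (topAugTop Y))
  let d := (nv Y W).obj (op ⦋0⦌)
  have h := congrArg (fun t => t.hom.app (op d)) (adj.left_triangle_components G)
  have h2 : (adj.unit.app G).hom.app (op ((FibDesc.incl (topAug Y)).obj d)) ≫
      ((FibDesc.incl (topAug Y)).op.ranCounit.app ((resPartY Y).obj G).obj).app (op d) = 𝟙 _ := by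
    refine Eq.trans ?_ h
    show _ = ((adj.unit.app G).hom.app (op ((FibDesc.incl (topAug Y)).obj d))) ≫
      (adj.counit.app ((resPartY Y).obj G)).hom.app (op d)
    rw [Functor.sheafAdjunctionCocontinuous_counit_app_hom, Functor.ranAdjunction_counit]
  show (adj.unit.app G).hom.app (op (baseT Y W)) ≫ (ranM Y ((resPartY Y).obj G)).map (augP Y W (op ⦋0⦌)).op ≫ _ = _
  refine (Category.assoc _ _ _).symm.trans ((congrArg (· ≫ _)
    ((adj.unit.app G).hom.naturality (augP Y W (op ⦋0⦌)).op).symm).trans ?_)
  exact (Category.assoc _ _ _).trans ((congrArg (_ ≫ ·) h2).trans (Category.comp_id _))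

lemma unit_adj_app (G : BaseSh (topAug Y) (topAugTop Y) AddCommGrpCat.{u}) :
    (FibDesc.adj (topAug Y) (topAugTop Y) AddCommGrpCat.{u}).unit.app G =
      ((eps (topAug Y)).sheafAdjunctionContinuous AddCommGrpCat.{u} (topAugTop Y (bot SimplexCategory))
        (totAug (topAug Y) (topAugTop Y))).unit.app G ≫
      (baseToPush Y).app ((FibSite.extend (topAug Y) (topAugTop Y) AddCommGrpCat.{u} (bot SimplexCategory)).obj G) := by
  rw [FibDesc.adj, Adjunction.comp_unit_app]
  rfl

instance full_eps : (ι (topAug Y) (bot SimplexCategory)).Full :=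
  ⟨fun {_ _} a => FibSiteLib.exists_vertical a (toBot_unique _ _)⟩

instance faithful_eps : (ι (topAug Y) (bot SimplexCategory)).Faithful :=
  ⟨fun {_ _ _ _} h => FibSiteLib.ι_injective h⟩

instance isIso_unit_eps : IsIso ((eps (topAug Y)).sheafAdjunctionContinuous AddCommGrpCat.{u}
    (topAugTop Y (bot SimplexCategory)) (totAug (topAug Y) (topAugTop Y))).unit := by
  haveI := FibSiteLib.isContinuous_ι (isPreFibSite Y) (bot SimplexCategory)
  haveI := FibSiteLib.isCocontinuous_ι (isPreFibSite Y) (bot SimplexCategory)
  let G := ι (topAug Y) (bot SimplexCategory)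
  let J := topAugTop Y (bot SimplexCategory)
  let K := totAug (topAug Y) (topAugTop Y)
  let e : Functor.sheafPullbackConstruction.sheafPullback G AddCommGrpCat.{u} J K ⋙ restrY Y ≅
      𝟭 (Sheaf J AddCommGrpCat.{u}) :=
    Functor.isoWhiskerLeft (sheafToPresheaf J AddCommGrpCat.{u}) (Functor.isoWhiskerLeft G.op.lan
        (G.pushforwardContinuousSheafificationCompatibility AddCommGrpCat.{u} J K).symm ≪≫
      (Functor.associator _ _ _).symm ≪≫
      Functor.isoWhiskerRight (asIso G.op.lanUnit).symm (presheafToSheaf J AddCommGrpCat.{u}) ≪≫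
      Functor.leftUnitor _) ≪≫
    asIso (sheafificationAdjunction J AddCommGrpCat.{u}).counit
  exact (G.sheafAdjunctionContinuous AddCommGrpCat.{u} J K).isIso_unit_of_iso
    (Functor.isoWhiskerRight (Functor.sheafPullbackConstruction.sheafPullbackIso G AddCommGrpCat.{u} J K) _ ≪≫ e)

lemma isIso_unit_app_iff (G : BaseSh (topAug Y) (topAugTop Y) AddCommGrpCat.{u}) :
    IsIso ((FibDesc.adj (topAug Y) (topAugTop Y) AddCommGrpCat.{u}).unit.app G) ↔
      IsIso ((baseToPush Y).app
        ((FibSite.extend (topAug Y) (topAugTop Y) AddCommGrpCat.{u} (bot SimplexCategory)).obj G)) := by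
  rw [unit_adj_app]
  haveI : IsIso (((eps (topAug Y)).sheafAdjunctionContinuous AddCommGrpCat.{u} (topAugTop Y (bot SimplexCategory))
      (totAug (topAug Y) (topAugTop Y))).unit.app G) := inferInstance
  exact ⟨fun h => @IsIso.of_isIso_comp_left _ _ _ _ _ _ _ _ h, fun _ => inferInstance⟩

end Groth.Agent.CohDescTop
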