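import Groth.Agent.CohDescTop.Chart
import Groth.Agent.CohDescTop.Lift
import Groth.Agent.CohDescTop.PushUnit
import Groth.Agent.CohDescTop.Acyclic
import Groth.Agent.CohDescTop.DerivedCmp
import Groth.Agent.SiteBase.ProperDescent.FibreIso
import Groth.Agent.SiteBase.ProperDescent.QuasiAcyclic

/-!
# Descent along a chart in terms of the localization at the liftable objects
-/

set_option autoImplicit false
set_option linter.unusedSectionVars false
set_option linter.style.haveILetI false
set_option backward.isDefEq.respectTransparency false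
set_option backward.isDefEq.respectTransparency.types false
set_option synthInstance.maxHeartbeats 100000

universe u

open CategoryTheory CategoryTheory.Limits Opposite Simplicial TopologicalSpace Pseudofunctor.CoGrothendieck
open Groth.Agent.DescentSS

noncomputable section

namespace Groth.Agent.CohDescTop

variable {S : TopCat.{u}} {τ : Type u} {Z : τ → TopCat.{u}} {g : ∀ i, Z i ⟶ S}

variable (Z g) in
/-- The objects lifting along a map to the base. -/
def liftable {A₀ : TopCat.{u}} (w : A₀ ⟶ S) : ObjectProperty (Opn Z g) :=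
  fun c => ∃ t : (Opens.toTopCat _).obj c.2 ⟶ A₀, t ≫ w = c.2.inclusion' ≫ str Z g c.1

instance isDownClosed_liftable {A₀ : TopCat.{u}} (w : A₀ ⟶ S) : IsDownClosed (liftable Z g w) where
  down {c d} h := fun ⟨t, ht⟩ => ⟨fn Z g h ≫ t, by
    rw [Category.assoc, ht]
    exact TopCat.hom_ext (ContinuousMap.ext fun x => fn_w Z g h x)⟩

/-- Bijectivity on a member. -/
abbrev BijMem {M N : Sheaf (covers Z g) AddCommGrpCat.{u}} (φ : M ⟶ N) (o : Option τ) : Prop :=
  ∀ U : Opens (sp (S := S) Z o), BijAt φ (mkObj Z g o U)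

lemma isIso_resTo_map_iff {M N : Sheaf (covers Z g) AddCommGrpCat.{u}} (φ : M ⟶ N) (o : Option τ) :
    IsIso ((resTo Z g o).map φ) ↔ BijMem φ o := by
  constructor
  · intro h U
    have : IsIso ((secFun (sp (S := S) Z o) U).map ((resTo Z g o).map φ)) := inferInstance
    exact (ConcreteCategory.isIso_iff_bijective _).1 this
  · intro h
    have : ∀ U, IsIso (((resTo Z g o).map φ).hom.app U) := fun U =>
      (ConcreteCategory.isIso_iff_bijective _).2 (h U.unop)
    have : IsIso ((resTo Z g o).map φ).hom := NatIso.isIso_of_isIso_app _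
    have : IsIso ((sheafToPresheaf _ _).map ((resTo Z g o).map φ)) := this
    exact isIso_of_reflects_iso _ (sheafToPresheaf _ _)

/-- The unit of a localization on a complex. -/
abbrev etaCx (P : ObjectProperty (Opn Z g)) [IsDownClosed P]
    (K : CochainComplex (Sheaf (covers Z g) AddCommGrpCat.{u}) ℕ) :
    ((𝟭 (Sheaf (covers Z g) AddCommGrpCat.{u})).mapHomologicalComplex (ComplexShape.up ℕ)).obj K ⟶
      ((loc (covers Z g) P).mapHomologicalComplex (ComplexShape.up ℕ)).obj K :=
  (NatTrans.mapHomologicalComplex (toLoc (covers Z g) P) (ComplexShape.up ℕ)).app K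

namespace Chart

variable (k : Chart Z g) {A₀ : TopCat.{u}} (w : A₀ ⟶ S)

/-- The chart is a base change of the map, as far as lifting goes. -/
structure IsBaseChange : Prop where
  down : ∃ p : k.A ⟶ A₀, p ≫ w = k.f ≫ str Z g k.o₀
  lift : ∀ {T : TopCat.{u}} (t : T ⟶ A₀) (b : T ⟶ sp (S := S) Z k.o₀), t ≫ w = b ≫ str Z g k.o₀ →
    ∃ c : T ⟶ k.A, c ≫ k.f = b

/-- The object over a degree. -/
abbrev dObj (d : Part k.Y) : Opn Z g := k.siteFun.obj ((FibDesc.incl (FibDesc.topAug k.Y)).obj d)

variable (W : Opens (sp (S := S) Z k.o₀))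

/-- The augmentation. -/
def augS (p : ℕ) : k.nB W p ⟶ mkObj Z g k.o₀ W := k.siteFun.map (augP k.Y W (op ⦋p⦌))

/-- The faces. -/
def faceS {m n : ℕ} (ψ : ⦋m⦌ ⟶ ⦋n⦌) : k.nB W n ⟶ k.nB W m :=
  k.siteFun.map ((FibDesc.incl (FibDesc.topAug k.Y)).map ((nv k.Y W).map ψ.op))

/-- The coordinates. -/
def crd {p : ℕ} {c : Opn Z g} (φ : c ⟶ k.nB W p) (i : Fin (p + 1)) : (Opens.toTopCat _).obj c.2 ⟶ k.A :=
  fn Z g φ ≫ Opens.inclusion' _ ≫ (k.φ p).hom ≫ WidePullback.π (fun _ : Fin (p + 1) => k.f) i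

lemma crd_faceS {m n : ℕ} (ψ : ⦋m⦌ ⟶ ⦋n⦌) {c : Opn Z g} (φ : c ⟶ k.nB W n) (i : Fin (m + 1)) :
    k.crd W (φ ≫ k.faceS W ψ) i = k.crd W φ (ψ.toOrderHom i) := by
  refine TopCat.hom_ext (ContinuousMap.ext fun x => ?_)
  let y : powX k.f n := (k.φ n).hom (fn Z g φ x).1
  show prj k.f i ((k.φ m).hom ((k.φ m).inv ((k.Y).map ((FibDesc.toAug SimplexCategory).map ψ.op) y))) =
    prj k.f (ψ.toOrderHom i) y
  rw [hom_inv_apply]
  exact ConcreteCategory.congr_hom
    (WidePullback.lift_π (arrows := fun _ : Fin (m + 1) => k.f) _ _ _ i) y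

lemma base_fn {p : ℕ} {c : Opn Z g} (φ : c ⟶ k.nB W p) (x : c.2) :
    (fn Z g (φ ≫ k.augS W p) x).1 = powG k.f ⟨p⟩ ((k.φ p).hom (fn Z g φ x).1) := rfl

lemma f_crd {p : ℕ} {c : Opn Z g} (φ : c ⟶ k.nB W p) (i : Fin (p + 1)) (x : c.2) :
    k.f (k.crd W φ i x) = (fn Z g (φ ≫ k.augS W p) x).1 := by
  rw [base_fn]
  exact f_prj k.f i _

lemma hom_ext_crd {p : ℕ} {c : Opn Z g} {a b : c ⟶ k.nB W p} (h : ∀ i, k.crd W a i = k.crd W b i) : a = b :=
  opn_hom_ext Z g fun x => by
    have e : (k.φ p).hom (fn Z g a x).1 = (k.φ p).hom (fn Z g b x).1 :=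
      pow_ext k.f fun i => ConcreteCategory.congr_hom (h i) x
    have := congrArg (k.φ p).inv e
    rwa [inv_hom_apply, inv_hom_apply] at this

lemma exists_into {p : ℕ} {c : Opn Z g} (b : c ⟶ mkObj Z g k.o₀ W)
    (t : Fin (p + 1) → ((Opens.toTopCat _).obj c.2 ⟶ k.A)) (ht : ∀ i x, k.f (t i x) = (fn Z g b x).1) :
    ∃ φ : c ⟶ k.nB W p, φ ≫ k.augS W p = b ∧ ∀ i, k.crd W φ i = t i := by
  let bv : (Opens.toTopCat _).obj c.2 ⟶ sp (S := S) Z k.o₀ := fn Z g b ≫ Opens.inclusion' _
  let l : (Opens.toTopCat _).obj c.2 ⟶ powX k.f p :=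
    WidePullback.lift bv t fun i => TopCat.hom_ext (ContinuousMap.ext fun x => ht i x)
  have hl : ∀ x, powG k.f ⟨p⟩ (l x) = (fn Z g b x).1 := fun x =>
    ConcreteCategory.congr_hom (WidePullback.lift_base (arrows := fun _ : Fin (p + 1) => k.f) bv t
      fun i => TopCat.hom_ext (ContinuousMap.ext fun x => ht i x)) x
  have hmem : ∀ x, (k.φ p).inv (l x) ∈ k.memOpen p (preY k.Y (op (WithInitial.of ⦋p⦌)) W) := fun x => by
    show powG k.f ⟨p⟩ ((k.φ p).hom ((k.φ p).inv (l x))) ∈ W
    rw [hom_inv_apply, hl]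
    exact (fn Z g b x).2
  let φ : c ⟶ k.nB W p := mkHom Z g (TopCat.ofHom ⟨fun x => ⟨(k.φ p).inv (l x), hmem x⟩,
    ((k.φ p).inv.hom.continuous.comp l.hom.continuous).subtype_mk _⟩) fun x => by
      show str Z g (k.e p) ((k.φ p).inv (l x)) = _
      refine (ConcreteCategory.congr_hom (k.φw p) ((k.φ p).inv (l x))).symm.trans ?_
      show str Z g k.o₀ (powG k.f ⟨p⟩ ((k.φ p).hom ((k.φ p).inv (l x)))) = _
      rw [hom_inv_apply, hl]
      exact fn_w Z g b x
  refine ⟨φ, opn_hom_ext Z g fun x => ?_, fun i => TopCat.hom_ext (ContinuousMap.ext fun x => ?_)⟩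
  · rw [base_fn]
    show powG k.f ⟨p⟩ ((k.φ p).hom ((k.φ p).inv (l x))) = _
    rw [hom_inv_apply, hl]
  · show prj k.f i ((k.φ p).hom ((k.φ p).inv (l x))) = _
    rw [hom_inv_apply]
    exact ConcreteCategory.congr_hom (WidePullback.lift_π (arrows := fun _ : Fin (p + 1) => k.f) bv t
      (fun i => TopCat.hom_ext (ContinuousMap.ext fun x => ht i x)) i) x

variable {k w}

lemma IsBaseChange.liftable_dObj (hb : k.IsBaseChange w) (d : Part k.Y) : liftable Z g w (k.dObj d) := by
  obtain ⟨q, hq⟩ := hb.down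
  obtain ⟨⟨n⟩, U⟩ := d
  refine ⟨Opens.inclusion' _ ≫ (k.φ n.len).hom ≫ WidePullback.π (fun _ : Fin (n.len + 1) => k.f) 0 ≫ q, ?_⟩
  rw [Category.assoc, Category.assoc, Category.assoc, hq, WidePullback.π_arrow_assoc, k.φw]
  rfl

lemma IsBaseChange.exists_factor (hb : k.IsBaseChange w) {c : Opn Z g} (hc : liftable Z g w c)
    (b : c ⟶ mkObj Z g k.o₀ W) : ∃ v : c ⟶ k.nB W 0, v ≫ k.augS W 0 = b := by
  obtain ⟨t, ht⟩ := hc
  obtain ⟨t', ht'⟩ := hb.lift t (fn Z g b ≫ Opens.inclusion' _)
    (ht.trans (TopCat.hom_ext (ContinuousMap.ext fun x => (fn_w Z g b x).symm)))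
  obtain ⟨v, hv, -⟩ := k.exists_into W b (fun _ => t') fun _ x => ConcreteCategory.congr_hom ht' x
  exact ⟨v, hv⟩

variable (k)

lemma exists_edge {c : Opn Z g} (v v' : c ⟶ k.nB W 0) (h : v ≫ k.augS W 0 = v' ≫ k.augS W 0) :
    ∃ q : c ⟶ k.nB W 1, q ≫ k.faceS W (SimplexCategory.δ (0 : Fin 2)) = v ∧
      q ≫ k.faceS W (SimplexCategory.δ (1 : Fin 2)) = v' := by
  obtain ⟨q, -, hq⟩ := k.exists_into W (v ≫ k.augS W 0) ![k.crd W v' 0, k.crd W v 0] (fun i x => by
    fin_cases i
    · show k.f (k.crd W v' 0 x) = _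
      rw [f_crd, h]
    · show k.f (k.crd W v 0 x) = _
      rw [f_crd])
  refine ⟨q, k.hom_ext_crd W fun i => ?_, k.hom_ext_crd W fun i => ?_⟩
  · rw [crd_faceS, hq, Fin.fin_one_eq_zero i]
    rfl
  · rw [crd_faceS, hq, Fin.fin_one_eq_zero i]
    rfl

/-- Injective sheaves restrict to good sheaves. -/
theorem isGood_resDS (I : Sheaf (covers Z g) AddCommGrpCat.{u}) [Injective I] : IsGood k.Y (k.resDS.obj I) where
  flasque i := ⟨fun {U V} a => by
    rw [AddCommGrpCat.epi_iff_surjective]
    let m := k.siteFun.map ((FibDesc.incl (FibDesc.topAug k.Y)).map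
      ((ι (FibDesc.part (FibDesc.topAug k.Y)) i).map a.unop))
    have hm : Mono m := ⟨fun p q e => opn_hom_ext Z g fun x => by
      have h := congrArg (fun t => (k.φ i.unop.len).hom (fn Z g t x).1) e
      change (k.φ i.unop.len).hom ((k.φ i.unop.len).inv ((k.Y).map ((FibDesc.toAug SimplexCategory).map (𝟙 i)) _)) =
        (k.φ i.unop.len).hom ((k.φ i.unop.len).inv ((k.Y).map ((FibDesc.toAug SimplexCategory).map (𝟙 i)) _)) at h
      rw [hom_inv_apply, hom_inv_apply, (FibDesc.toAug SimplexCategory).map_id, CategoryTheory.Functor.map_id] at h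
      have := congrArg (k.φ i.unop.len).inv h
      exact (k.inv_hom_apply _ _).symm.trans (this.trans (k.inv_hom_apply _ _))⟩
    exact SiteBase.sections_surjective_of_mono m I⟩
  rows W p := by
    classical
    have : Injective I.obj :=
      (sheafificationAdjunction (covers Z g) AddCommGrpCat.{u}).map_injective I ‹_›
    let K : SimplicialObject (Opn Z g) := nv k.Y W ⋙ FibDesc.incl (FibDesc.topAug k.Y) ⋙ k.siteFun
    show ((DescentSS.cx K).obj I.obj).ExactAt (p + 1)
    let Pick : (T : Opn Z g) → (T ⟶ mkObj Z g k.o₀ W) → Type u := fun T b =>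
      {t : (Opens.toTopCat _).obj T.2 ⟶ k.A // ∀ x, k.f (t x) = (fn Z g b x).1}
    have ne : ∀ {T : Opn Z g} {q : ℕ} (φ : T ⟶ k.nB W q), Nonempty (Pick T (φ ≫ k.augS W q)) := fun φ =>
      ⟨⟨k.crd W φ 0, fun x => k.f_crd W φ 0 x⟩⟩
    let pick : ∀ (T : Opn Z g) (b : T ⟶ mkObj Z g k.o₀ W), Nonempty (Pick T b) → Pick T b :=
      fun T b h => Classical.choice h
    have hh : ∀ (T : Opn Z g) (q : ℕ) (φ : T ⟶ k.nB W q), ∃ φ' : T ⟶ k.nB W (q + 1),
        φ' ≫ k.augS W (q + 1) = φ ≫ k.augS W q ∧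
        ∀ i, k.crd W φ' i = (Fin.cons (pick T _ (ne φ)).1 (k.crd W φ) : Fin (q + 2) → _) i := fun T q φ =>
      k.exists_into W (φ ≫ k.augS W q) _ (fun i x => by
        induction i using Fin.cases with
        | zero => exact (pick T _ (ne φ)).2 x
        | succ i => exact k.f_crd W φ i x)
    choose h hb hc using hh
    refine ProperDescent.exactAt_cx_of_injective K h (fun T q φ => k.hom_ext_crd W fun i => ?_)
      (fun T q φ j => k.hom_ext_crd W fun i => ?_) I.obj p
    · refine (k.crd_faceS W (SimplexCategory.δ (0 : Fin (q + 2))) (h T q φ) i).trans ?_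
      rw [hc]
      show (Fin.cons _ _ : Fin (q + 2) → _) ((0 : Fin (q + 2)).succAbove i) = _
      rw [Fin.succAbove_zero, Fin.cons_succ]
    · refine (k.crd_faceS W (SimplexCategory.δ j.succ) (h T (q + 1) φ) i).trans ?_
      rw [hc, hc]
      show (Fin.cons _ _ : Fin (q + 3) → _) (j.succ.succAbove i) = _
      induction i using Fin.cases with
      | zero =>
        rw [Fin.succ_succAbove_zero, Fin.cons_zero, Fin.cons_zero]
        have e : φ ≫ k.augS W (q + 1) = (φ ≫ k.faceS W (SimplexCategory.δ j)) ≫ k.augS W q := by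
          refine Eq.trans ?_ (Category.assoc _ _ _).symm
          exact congrArg (φ ≫ ·) ((congrArg k.siteFun.map (tot_ext k.Y (toBot_unique _ _))).trans
            (k.siteFun.map_comp _ _))
        have key : ∀ {b b' : T ⟶ mkObj Z g k.o₀ W} (_ : b = b') (n : Nonempty (Pick T b)) (n' : Nonempty (Pick T b')),
            (pick T b n).1 = (pick T b' n').1 := by rintro b _ rfl n n'; rfl
        exact key e _ _
      | succ i =>
        rw [Fin.succ_succAbove_succ, Fin.cons_succ, Fin.cons_succ]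
        exact (k.crd_faceS W (SimplexCategory.δ j) φ i).symm

/-- Sections of the base member in the direct image. -/
def kappa : resTo Z g k.o₀ ⟶ k.resDS ⋙ pushY k.Y :=
  k.restrBotIso.inv ≫ Functor.whiskerLeft k.resTot (baseToPush k.Y)

lemma π0_kappa (M : Sheaf (covers Z g) AddCommGrpCat.{u}) (x : M.obj.obj (op (mkObj Z g k.o₀ W))) :
    (π0 k.Y W (k.resDS.obj M)).hom (((k.kappa.app M).hom.app (op W)).hom x) = (M.obj.map (k.augS W 0).op).hom x :=
  ConcreteCategory.congr_hom (π0_baseToPush k.Y (k.resTot.obj M) W) x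

variable {k} (hb : k.IsBaseChange w)

include hb in
theorem bijective_kappa_loc (M : Sheaf (covers Z g) AddCommGrpCat.{u}) :
    Function.Bijective (((k.kappa.app ((loc (covers Z g) (liftable Z g w)).obj M)).hom.app (op W))).hom := by
  let N := (loc (covers Z g) (liftable Z g w)).obj M
  have hK : ∀ p, liftable Z g w (k.nB W p) := fun p => hb.liftable_dObj _
  refine ⟨fun x y e => ext_val M fun {T} hT a => ?_, fun c => ?_⟩
  · obtain ⟨v, hv⟩ := hb.exists_factor W hT a
    have e' := congrArg (π0 k.Y W (k.resDS.obj N)).hom e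
    rw [π0_kappa, π0_kappa] at e'
    rw [← hv, ← val_map, ← val_map]
    exact congrArg (fun t => val M t hT v) e'
  · let c0 : N.obj.obj (op (k.nB W 0)) := (π0 k.Y W (k.resDS.obj N)).hom c
    have hcoc : ∀ {T : Opn Z g} (hT : liftable Z g w T) (v v' : T ⟶ k.nB W 0),
        v ≫ k.augS W 0 = v' ≫ k.augS W 0 → val M c0 hT v = val M c0 hT v' := by
      intro T hT v v' h
      obtain ⟨q, hq, hq'⟩ := k.exists_edge W v v' h
      rw [← hq, ← hq', ← val_map, ← val_map]
      exact congrArg (fun t => val M t hT q) (π0_cocycle k.Y W (k.resDS.obj N) c)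
    choose v hv using fun (T : Opn Z g) (hT : liftable Z g w T) (a : T ⟶ mkObj Z g k.o₀ W) =>
      hb.exists_factor W hT a
    obtain ⟨x, hx⟩ := exists_val M (T := mkObj Z g k.o₀ W) (fun T hT a => val M c0 hT (v T hT a))
      (fun T T' hT hT' b a => by
        rw [val_comp M c0 hT hT' b (v T hT a)]
        refine hcoc hT' _ _ ?_
        rw [Category.assoc, hv, hv])
    refine ⟨x, π0_injective k.Y W _ (ext_val M fun {T} hT a => ?_)⟩
    rw [π0_kappa]
    exact (val_map M (k.augS W 0) x hT a).trans ((hx T hT (a ≫ k.augS W 0)).trans (hcoc hT _ _ (hv _ _ _)))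

include hb in
theorem isIso_kappa_loc (M : Sheaf (covers Z g) AddCommGrpCat.{u}) :
    IsIso (k.kappa.app ((loc (covers Z g) (liftable Z g w)).obj M)) := by
  have : ∀ W, IsIso ((k.kappa.app ((loc (covers Z g) (liftable Z g w)).obj M)).hom.app W) := fun W =>
    (ConcreteCategory.isIso_iff_bijective _).2 (bijective_kappa_loc W.unop hb M)
  have : IsIso (k.kappa.app ((loc (covers Z g) (liftable Z g w)).obj M)).hom := NatIso.isIso_of_isIso_app _
  have : IsIso ((sheafToPresheaf _ _).map (k.kappa.app ((loc (covers Z g) (liftable Z g w)).obj M))) := this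
  exact isIso_of_reflects_iso _ (sheafToPresheaf _ _)

lemma isIso_resDS_of_bijAt {M N : Sheaf (covers Z g) AddCommGrpCat.{u}} (φ : M ⟶ N)
    (h : ∀ d, BijAt φ (k.dObj d)) : IsIso (k.resDS.map φ) := by
  have : ∀ d, IsIso ((k.resDS.map φ).hom.app d) := fun d =>
    (ConcreteCategory.isIso_iff_bijective _).2 (h d.unop)
  have : IsIso (k.resDS.map φ).hom := NatIso.isIso_of_isIso_app _
  have : IsIso ((sheafToPresheaf _ _).map (k.resDS.map φ)) := this
  exact isIso_of_reflects_iso _ (sheafToPresheaf _ _)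

lemma isIso_resDS_of_bijMem {M N : Sheaf (covers Z g) AddCommGrpCat.{u}} (φ : M ⟶ N)
    (h : ∀ p, BijMem φ (k.e p)) : IsIso (k.resDS.map φ) :=
  isIso_resDS_of_bijAt φ fun ⟨⟨n⟩, U⟩ => h n.len (k.memOpen n.len U)

include hb in
lemma isIso_whisker_kappa : IsIso (Functor.whiskerLeft (loc (covers Z g) (liftable Z g w)) k.kappa) :=
  haveI : ∀ M, IsIso ((Functor.whiskerLeft (loc (covers Z g) (liftable Z g w)) k.kappa).app M) :=
    isIso_kappa_loc hb
  NatIso.isIso_of_isIso_app _

include hb in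
lemma isIso_whisker_toLoc :
    IsIso (Functor.whiskerRight (toLoc (covers Z g) (liftable Z g w)) (k.resDS ⋙ pushY k.Y)) :=
  haveI : ∀ M, IsIso ((Functor.whiskerRight (toLoc (covers Z g) (liftable Z g w)) (k.resDS ⋙ pushY k.Y)).app M) :=
    fun M => @Functor.map_isIso _ _ _ _ _ _ (pushY k.Y) _ (isIso_resDS_of_bijAt (k := k)
      ((toLoc (covers Z g) (liftable Z g w)).app M) (fun d => bijAt_toLoc M (hb.liftable_dObj d)))
  NatIso.isIso_of_isIso_app _

include hb in
/-- The localization on the base member is the direct image from the simplicial space. -/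
def locPushIso : loc (covers Z g) (liftable Z g w) ⋙ resTo Z g k.o₀ ≅ k.resDS ⋙ pushY k.Y :=
  @asIso _ _ _ _ (Functor.whiskerLeft (loc (covers Z g) (liftable Z g w)) k.kappa) (isIso_whisker_kappa hb) ≪≫
    (@asIso _ _ _ _ (Functor.whiskerRight (toLoc (covers Z g) (liftable Z g w)) (k.resDS ⋙ pushY k.Y))
      (isIso_whisker_toLoc hb)).symm

include hb in
lemma toLoc_locPushIso :
    Functor.whiskerRight (toLoc (covers Z g) (liftable Z g w)) (resTo Z g k.o₀) ≫ (locPushIso hb).hom =
      k.kappa := by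
  haveI := isIso_whisker_toLoc hb
  rw [← cancel_mono (Functor.whiskerRight (toLoc (covers Z g) (liftable Z g w)) (k.resDS ⋙ pushY k.Y))]
  simp only [locPushIso, Iso.trans_hom, Iso.symm_hom, asIso_hom, asIso_inv, Category.assoc, IsIso.inv_hom_id,
    Category.comp_id]
  exact NatTrans.ext (funext fun M => k.kappa.naturality ((toLoc (covers Z g) (liftable Z g w)).app M))

instance additive_pushY' (Y : (WithInitial SimplexCategory)ᵒᵖ ⥤ TopCat.{u}) : (pushY Y).Additive := inferInstance

instance preservesFiniteLimits_pushY (Y : (WithInitial SimplexCategory)ᵒᵖ ⥤ TopCat.{u}) :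
    PreservesFiniteLimits (pushY Y) :=
  haveI : PreservesLimitsOfSize.{0, 0} (pushY Y) := inferInstance
  inferInstance

/-- The value of the inverse image on the simplicial space. -/
def pullIso : CohTop.pull (str Z g k.o₀) ⋙ FibDesc.pull (FibDesc.topAug k.Y) (FibDesc.topAugTop k.Y)
    AddCommGrpCat.{u} ≅ fromBase Z g ⋙ k.resDS :=
  (Functor.associator _ _ _).symm ≪≫ Functor.isoWhiskerRight k.extendIso _ ≪≫ Functor.associator _ _ _

variable {F : CohTop.Ab S} (R : InjectiveResolution ((fromBase Z g).obj F))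

include hb in
/-- Descent along a chart at one sheaf. -/
theorem bijMem_iff :
    (∀ q, BijMem (HomologicalComplex.homologyMap (etaCx (liftable Z g w) R.cocomplex) q) k.o₀) ↔
      (IsIso ((FibDesc.adj (FibDesc.topAug k.Y) (FibDesc.topAugTop k.Y) AddCommGrpCat.{u}).unit.app
          ((CohTop.pull (str Z g k.o₀)).obj F)) ∧
        ∀ q, IsZero (((pushY k.Y).rightDerived (q + 1)).obj
          ((FibDesc.pull (FibDesc.topAug k.Y) (FibDesc.topAugTop k.Y) AddCommGrpCat.{u}).obj
            ((CohTop.pull (str Z g k.o₀)).obj F)))) := by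
  haveI := ProperDescent.preservesFiniteLimits_resTo Z g k.o₀
  haveI := ProperDescent.preservesFiniteColimits_resTo Z g k.o₀
  haveI : (resTo Z g k.o₀).Additive := inferInstance
  haveI : PreservesFiniteLimits (k.resDS ⋙ pushY k.Y) := comp_preservesFiniteLimits _ _
  haveI : (k.resDS ⋙ pushY k.Y).Additive := inferInstance
  have h1 : ∀ q, BijMem (HomologicalComplex.homologyMap (etaCx (liftable Z g w) R.cocomplex) q) k.o₀ ↔
      IsIso (HomologicalComplex.homologyMap
        ((NatTrans.mapHomologicalComplex k.kappa (ComplexShape.up ℕ)).app R.cocomplex) q) := fun q => by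
    rw [← isIso_resTo_map_iff, ← isIso_homologyMap_map_iff]
    let e := (NatIso.mapHomologicalComplex (locPushIso hb) (ComplexShape.up ℕ)).app R.cocomplex
    have he : ((resTo Z g k.o₀).mapHomologicalComplex (ComplexShape.up ℕ)).map
          (etaCx (liftable Z g w) R.cocomplex) ≫ e.hom =
        (NatTrans.mapHomologicalComplex k.kappa (ComplexShape.up ℕ)).app R.cocomplex :=
      HomologicalComplex.hom_ext _ _ fun i =>
        congrArg (fun t => t.app (R.cocomplex.X i)) (toLoc_locPushIso hb)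
    rw [← he, HomologicalComplex.homologyMap_comp]
    exact ⟨fun h => @IsIso.comp_isIso _ _ _ _ _ _ _ h inferInstance,
      fun h => @IsIso.of_isIso_comp_right _ _ _ _ _ _ (HomologicalComplex.homologyMap e.hom q) inferInstance h⟩
  refine (forall_congr' h1).trans ((forall_isIso_homologyMap_iff k.kappa R).trans (and_congr ?_ (forall_congr' fun q => ?_)))
  · rw [isIso_unit_app_iff]
    refine Iff.trans ?_ (NatTrans.isIso_app_iff_of_iso (baseToPush k.Y) (k.extendIso.app F)).symm
    exact ⟨fun h => @IsIso.of_isIso_comp_left _ _ _ _ _ (k.restrBotIso.inv.app _) _ inferInstance h,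
      fun h => @IsIso.comp_isIso _ _ _ _ _ _ _ inferInstance h⟩
  · obtain ⟨e⟩ := SiteBase.nonempty_rightDerived_precomp_of_acyclic (E := k.resDS) (G := pushY k.Y)
      (fun Q hQ i => isZero_rightDerived_pushY k.Y _ (haveI := hQ; k.isGood_resDS Q) i) (q + 1)
    let i := e.app ((fromBase Z g).obj F) ≪≫ ((pushY k.Y).rightDerived (q + 1)).mapIso ((k.pullIso).app F).symm
    exact ⟨fun h => h.of_iso i.symm, fun h => h.of_iso i⟩

include hb in
/-- Localizing at the base member preserves what is an isomorphism on the powers. -/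
theorem bijMem_loc_map {Q : ObjectProperty (Opn Z g)} [IsDownClosed Q]
    (h : ∀ p q, BijMem (HomologicalComplex.homologyMap (etaCx Q R.cocomplex) q) (k.e p)) (q : ℕ) :
    BijMem (HomologicalComplex.homologyMap
      (((loc (covers Z g) (liftable Z g w)).mapHomologicalComplex (ComplexShape.up ℕ)).map
        (etaCx Q R.cocomplex)) q) k.o₀ := by
  haveI := ProperDescent.preservesFiniteLimits_resTo Z g k.o₀
  haveI := ProperDescent.preservesFiniteColimits_resTo Z g k.o₀
  rw [← isIso_resTo_map_iff, ← isIso_homologyMap_map_iff]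
  let L := ((loc (covers Z g) Q).mapHomologicalComplex (ComplexShape.up ℕ)).obj R.cocomplex
  let K := ((𝟭 (Sheaf (covers Z g) AddCommGrpCat.{u})).mapHomologicalComplex (ComplexShape.up ℕ)).obj R.cocomplex
  let f := (k.resDS.mapHomologicalComplex (ComplexShape.up ℕ)).map (etaCx Q R.cocomplex)
  have hq : ∀ q, IsIso (HomologicalComplex.homologyMap f q) := fun q => by
    rw [isIso_homologyMap_map_iff]
    exact isIso_resDS_of_bijMem _ fun p => h p q
  have hK : CompareSit.Acyclic (pushY k.Y) ((k.resDS.mapHomologicalComplex (ComplexShape.up ℕ)).obj K) := fun i p =>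
    haveI : Injective (K.X i) := R.injective i
    isZero_rightDerived_pushY k.Y _ (k.isGood_resDS (K.X i)) p
  have hL : CompareSit.Acyclic (pushY k.Y) ((k.resDS.mapHomologicalComplex (ComplexShape.up ℕ)).obj L) := fun i p =>
    haveI : Injective (L.X i) :=
      haveI : Injective (R.cocomplex.X i) := R.injective i
      injective_loc_obj (covers Z g) Q (R.cocomplex.X i)
    isZero_rightDerived_pushY k.Y _ (k.isGood_resDS (L.X i)) p
  have eK : ∀ q, IsZero (((k.resDS.mapHomologicalComplex (ComplexShape.up ℕ)).obj K).homology (q + 1)) := fun q =>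
    (HomologicalComplex.exactAt_iff_isZero_homology _ _).1
      ((RDer.res_exactAt_succ R.cocomplex R.ι q).map k.resDS)
  have eL : ∀ q, IsZero (((k.resDS.mapHomologicalComplex (ComplexShape.up ℕ)).obj L).homology (q + 1)) := fun q =>
    haveI := hq (q + 1)
    (eK q).of_iso (asIso (HomologicalComplex.homologyMap f (q + 1))).symm
  have hP := CompareSit.isIso_homologyMap_of_acyclic (pushY k.Y) f hK hL eK eL (hq 0) q
  let e := NatIso.mapHomologicalComplex (locPushIso hb) (ComplexShape.up ℕ)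
  have he := e.hom.naturality (etaCx Q R.cocomplex)
  have hm := congrArg (fun t => HomologicalComplex.homologyMap t q) he
  simp only [HomologicalComplex.homologyMap_comp] at hm
  have hP' : IsIso (HomologicalComplex.homologyMap
      (((k.resDS ⋙ pushY k.Y).mapHomologicalComplex (ComplexShape.up ℕ)).map (etaCx Q R.cocomplex)) q) := hP
  have hi : ∀ M, IsIso (HomologicalComplex.homologyMap (e.hom.app M) q) := fun M =>
    inferInstanceAs (IsIso (HomologicalComplex.homologyMap (e.app M).hom q))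
  exact @IsIso.of_isIso_comp_right _ _ _ _ _ _ _ (hi _)
    ((congrArg (fun t => IsIso t) hm).mpr (@IsIso.comp_isIso _ _ _ _ _ _ _ (hi _) hP'))

end Chart

end Groth.Agent.CohDescTop
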