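import Groth.Agent.CohDescTop.Sites
import Groth.Agent.SiteBase.ProperDescent.Assemble

/-!
# The simplicial space of a map inside the site of fibre powers
-/

set_option autoImplicit false
set_option linter.unusedSectionVars false
set_option linter.style.haveILetI false
set_option backward.isDefEq.respectTransparency false
set_option backward.isDefEq.respectTransparency.types false

universe u

open CategoryTheory CategoryTheory.Limits Opposite Simplicial TopologicalSpace Pseudofunctor.CoGrothendieck
open Groth.Agent.DescentSS Groth.Agent.ProperDescent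

noncomputable section

namespace Groth.Agent.CohDescTop

section Over

variable (Y : (WithInitial SimplexCategory)ᵒᵖ ⥤ TopCat.{u})

/-- The map of spaces of a morphism. -/
def mapFn {c d : Tot Y} (a : c ⟶ d) : (Opens.toTopCat _).obj (opT Y c) ⟶ (Opens.toTopCat _).obj (opT Y d) :=
  TopCat.ofHom ⟨fun x => ⟨Y.map a.base x.1, le_of_homT Y a x.2⟩,
    ((Y.map a.base).hom.continuous.comp continuous_subtype_val).subtype_mk _⟩

/-- Objects as spaces over the base. -/
def overF : Tot Y ⥤ Over (Y.obj (FibDesc.bot SimplexCategory)) where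
  obj c := Over.mk ((opT Y c).inclusion' ≫ gY Y c.base)
  map {c d} a := Over.homMk (mapFn Y a) (TopCat.hom_ext (ContinuousMap.ext fun x =>
    ConcreteCategory.congr_hom (gY_w Y a.base) x.1))
  map_id c := Over.OverMorphism.ext (TopCat.hom_ext (ContinuousMap.ext fun x => Subtype.ext (by
    show Y.map (𝟙 c.base) x.1 = x.1
    rw [Y.map_id]; rfl)))
  map_comp {c d e} a b := Over.OverMorphism.ext (TopCat.hom_ext (ContinuousMap.ext fun x => Subtype.ext (by
    show Y.map (a.base ≫ b.base) x.1 = Y.map b.base (Y.map a.base x.1)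
    rw [Y.map_comp]; rfl)))

end Over

variable {X S : TopCat.{u}} (f : X ⟶ S)

local notation "EZ" => extZ (powZ f) (powG f)
local notation "EG" => extG (powZ f) (powG f)
local notation "YC" => FibDesc.cechAug f

/-- The member of an index. -/
def idxOf (i : (WithInitial SimplexCategory)ᵒᵖ) : Option (extι (S := S) (ι := ULift.{u} ℕ)) :=
  match i with
  | ⟨WithInitial.star⟩ => none
  | ⟨WithInitial.of n⟩ => pIdx n.len

/-- The object of the site of fibre powers. -/
def toExt (c : Tot YC) : PExt f :=
  match c with
  | ⟨⟨WithInitial.star⟩, U⟩ => mkObj EZ EG none U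
  | ⟨⟨WithInitial.of n⟩, U⟩ => mkObj EZ EG (pIdx n.len) U

/-- It is the same space over the base. -/
def toExtIso (c : Tot YC) : ofOpen EZ EG (toExt f c) ≅ (overF YC).obj c :=
  match c with
  | ⟨⟨WithInitial.star⟩, _⟩ => Iso.refl _
  | ⟨⟨WithInitial.of _⟩, _⟩ => Iso.refl _

/-- The comparison functor. -/
def extFun : Tot YC ⥤ PExt f where
  obj := toExt f
  map {c d} a := InducedCategory.homMk ((toExtIso f c).hom ≫ (overF YC).map a ≫ (toExtIso f d).inv)
  map_id c := InducedCategory.hom_ext (by simp)
  map_comp a b := InducedCategory.hom_ext (by simp)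

/-- On the fibres it is the inclusion of a member. -/
def extFibre (i : (WithInitial SimplexCategory)ᵒᵖ) :
    { φ : Opens ((YC).obj i) ⥤ PExt f // φ.IsContinuous (Opens.grothendieckTopology _) (pTop f) ∧
      Nonempty (φ ≅ ι (FibDesc.topAug YC) i ⋙ extFun f) } :=
  match i with
  | ⟨WithInitial.star⟩ => ⟨opnFunctor EZ EG none, opnFunctor_isContinuous EZ EG none,
      ⟨NatIso.ofComponents (fun _ => Iso.refl _) fun g => opn_hom_ext EZ EG fun x => by
        show x.1 = (YC).map (𝟙 (op WithInitial.star)) x.1
        rw [CategoryTheory.Functor.map_id]; rfl⟩⟩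
  | ⟨WithInitial.of n⟩ => ⟨opnFunctor EZ EG (pIdx n.len), opnFunctor_isContinuous EZ EG _,
      ⟨NatIso.ofComponents (fun _ => Iso.refl _) fun g => opn_hom_ext EZ EG fun x => by
        show x.1 = (YC).map (𝟙 (op (WithInitial.of n))) x.1
        rw [CategoryTheory.Functor.map_id]; rfl⟩⟩

lemma extFun_ι_of (n : SimplexCategory) {U V : Opens ((YC).obj (op (WithInitial.of n)))} (h : V ≤ U) :
    (extFun f).map ((ι (FibDesc.topAug YC) (op (WithInitial.of n))).map (homOfLE h : V ⟶ U)) =
      DescentSS.incl EZ EG (pIdx n.len) h :=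
  opn_hom_ext EZ EG fun x => by
    show (YC).map (𝟙 (op (WithInitial.of n))) x.1 = x.1
    rw [CategoryTheory.Functor.map_id]; rfl

lemma extFun_ι_star {U V : Opens ((YC).obj (op WithInitial.star))} (h : V ≤ U) :
    (extFun f).map ((ι (FibDesc.topAug YC) (op WithInitial.star)).map (homOfLE h : V ⟶ U)) =
      DescentSS.incl EZ EG none h :=
  opn_hom_ext EZ EG fun x => by
    show (YC).map (𝟙 (op WithInitial.star)) x.1 = x.1
    rw [CategoryTheory.Functor.map_id]; rfl

instance isContinuous_extFun :
    (extFun f).IsContinuous (FibDesc.totAug (FibDesc.topAug YC) (FibDesc.topAugTop YC)) (pTop f) :=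
  (FibSiteLib.isContinuous_total_iff (isPreFibSite YC) _ _).2 fun i =>
    haveI := (extFibre f i).2.1
    Functor.isContinuous_of_iso (extFibre f i).2.2.some _ _

instance isCocontinuous_extFun :
    (extFun f).IsCocontinuous (FibDesc.totAug (FibDesc.topAug YC) (FibDesc.topAugTop YC)) (pTop f) where
  cover_lift {c T} hT := by
    refine (FibSiteLib.mem_totalTopology_iff (isPreFibSite YC) _ _).2 ?_
    obtain ⟨i, U⟩ := c
    refine ⟨(T.functorPullback (extFun f)).functorPullback (ι (FibDesc.topAug YC) i), ?_, ?_⟩
    · rcases i with ⟨n | _⟩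
      · intro x hx
        obtain ⟨V, hV, hxV, hTV⟩ := (mem_covers EZ EG T).1 hT x hx
        refine ⟨V, (homOfLE hV : (V : Opens ((YC).obj (op (WithInitial.of n)))) ⟶ U), ?_, hxV⟩
        exact (congrArg (fun t => T.arrows t) (extFun_ι_of f n hV)).mpr hTV
      · intro x hx
        obtain ⟨V, hV, hxV, hTV⟩ := (mem_covers EZ EG T).1 hT x hx
        refine ⟨V, (homOfLE hV : (V : Opens ((YC).obj (op WithInitial.star))) ⟶ U), ?_, hxV⟩
        exact (congrArg (fun t => T.arrows t) (extFun_ι_star f hV)).mpr hTV
    · rintro W _ ⟨V, g, k, hg, rfl⟩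
      exact (T.functorPullback (extFun f)).downward_closed hg k

/-- Restriction to the augmented simplicial space. -/
abbrev resExt : Sheaf (pTop f) AddCommGrpCat.{u} ⥤
    FibSite.TotSh (FibDesc.topAug YC) (FibDesc.topAugTop YC) AddCommGrpCat.{u} :=
  (extFun f).sheafPushforwardContinuous AddCommGrpCat.{u} _ (pTop f)

/-- Its right adjoint. -/
abbrev resExtRight : FibSite.TotSh (FibDesc.topAug YC) (FibDesc.topAugTop YC) AddCommGrpCat.{u} ⥤
    Sheaf (pTop f) AddCommGrpCat.{u} :=
  (extFun f).sheafPushforwardCocontinuous AddCommGrpCat.{u} _ (pTop f)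

/-- The initial structured arrow over an open of the base. -/
def initialExt (V : Opens S) : StructuredArrow (op (mkObj EZ EG none V)) (extFun f).op :=
  StructuredArrow.mk (Y := op (obT YC (FibDesc.bot SimplexCategory) V)) (𝟙 (op (mkObj EZ EG none V)))

lemma le_preY_ext (c : Tot YC) (V : Opens S) (a : (extFun f).obj c ⟶ mkObj EZ EG none V) :
    opT YC c ≤ preY YC c.base V :=
  match c, a with
  | ⟨⟨WithInitial.star⟩, _⟩, a => fun x hx => fn_base EZ EG a ⟨x, hx⟩
  | ⟨⟨WithInitial.of _⟩, _⟩, a => fun x hx => fn_base EZ EG a ⟨x, hx⟩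

/-- It is initial. -/
def isInitial_initialExt (V : Opens S) : IsInitial (initialExt f V) :=
  IsInitial.ofUniqueHom
    (fun T => StructuredArrow.homMk
      (homT YC (toBot T.right.unop.base) (le_preY_ext f T.right.unop V T.hom.unop)).op
      (Quiver.Hom.unop_inj (ProperDescent.hom_ext_none f _ _)))
    (fun T m => StructuredArrow.hom_ext _ _ (Quiver.Hom.unop_inj (tot_ext YC (toBot_unique (i := T.right.unop.base) _ _))))

/-- The counit on the base. -/
def baseCmp : resExtRight f ⋙ resN f ⟶
    FibSite.restr (FibDesc.topAug YC) (FibDesc.topAugTop YC) AddCommGrpCat.{u} (FibDesc.bot SimplexCategory) where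
  app G := ⟨{
    app := fun V => (((extFun f).sheafAdjunctionCocontinuous AddCommGrpCat.{u} _ (pTop f)).counit.app G).hom.app
      (op (obT YC (FibDesc.bot SimplexCategory) V.unop))
    naturality := fun V W k => by
      let c := (((extFun f).sheafAdjunctionCocontinuous AddCommGrpCat.{u} _ (pTop f)).counit.app G).hom
      refine Eq.trans ?_ (c.naturality ((ι (FibDesc.topAug YC) (FibDesc.bot SimplexCategory)).map k.unop).op)
      exact congrArg (fun t => ((resExtRight f).obj G).obj.map (Quiver.Hom.op t) ≫
        c.app (op (obT YC (FibDesc.bot SimplexCategory) W.unop))) (ProperDescent.hom_ext_none f _ _) }⟩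
  naturality G G' φ := by
    refine Sheaf.hom_ext (NatTrans.ext (funext fun V => ?_))
    exact congrArg (fun t => t.hom.app (op (obT YC (FibDesc.bot SimplexCategory) V.unop)))
      (((extFun f).sheafAdjunctionCocontinuous AddCommGrpCat.{u} _ (pTop f)).counit.naturality φ)

instance isIso_baseCmp : IsIso (baseCmp f) := by
  have h : ∀ G, IsIso ((baseCmp f).app G) := fun G => by
    have : ∀ V, IsIso (((baseCmp f).app G).hom.app V) := fun V => by
      have h := (extFun f).op.isPointwiseRightKanExtensionRanCounit G.obj (op (mkObj EZ EG none V.unop))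
      have h2 := h.isIso_π_app_of_isInitial (initialExt f V.unop) (isInitial_initialExt f V.unop)
      refine (show IsIso ((((extFun f).sheafAdjunctionCocontinuous AddCommGrpCat.{u} _ (pTop f)).counit.app G).hom.app
        (op (obT YC (FibDesc.bot SimplexCategory) V.unop))) from ?_)
      rw [Functor.sheafAdjunctionCocontinuous_counit_app_hom, Functor.ranAdjunction_counit]
      have e : (((extFun f).op.ran.obj G.obj).map (initialExt f V.unop).hom) = 𝟙 _ :=
        ((extFun f).op.ran.obj G.obj).map_id _
      simp only [Functor.RightExtension.coneAt_π_app, Functor.RightExtension.mk_hom] at h2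
      have h3 : ((extFun f).op.ran.obj G.obj).map (initialExt f V.unop).hom ≫
          ((extFun f).op.ranCounit.app G.obj).app (op (obT YC (FibDesc.bot SimplexCategory) V.unop)) =
          ((extFun f).op.ranCounit.app G.obj).app (op (obT YC (FibDesc.bot SimplexCategory) V.unop)) :=
        (congrArg (fun t => t ≫ ((extFun f).op.ranCounit.app G.obj).app
          (op (obT YC (FibDesc.bot SimplexCategory) V.unop))) e).trans (Category.id_comp _)
      exact (congrArg (fun t => IsIso t) h3).mp h2
    have : IsIso ((baseCmp f).app G).hom := NatIso.isIso_of_isIso_app _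
    have : IsIso ((sheafToPresheaf _ _).map ((baseCmp f).app G)) :=
      show IsIso ((baseCmp f).app G).hom from this
    exact isIso_of_reflects_iso _ (sheafToPresheaf _ _)
  exact NatIso.isIso_of_isIso_app _

/-- Extension from the base through the site of fibre powers. -/
def extendIso : FibSite.extend (FibDesc.topAug YC) (FibDesc.topAugTop YC) AddCommGrpCat.{u}
      (FibDesc.bot SimplexCategory) ≅ fromBase EZ EG ⋙ resExt f :=
  Adjunction.leftAdjointUniq
    ((FibDesc.eps (FibDesc.topAug YC)).sheafAdjunctionContinuous AddCommGrpCat.{u}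
      (FibDesc.topAugTop YC (FibDesc.bot SimplexCategory)) (FibDesc.totAug (FibDesc.topAug YC) (FibDesc.topAugTop YC)))
    ((((opnFunctor EZ EG none).sheafAdjunctionContinuous AddCommGrpCat.{u}
      (Opens.grothendieckTopology (sp (S := S) EZ none)) (pTop f)).comp
        ((extFun f).sheafAdjunctionCocontinuous AddCommGrpCat.{u} _ (pTop f))).ofNatIsoRight (asIso (baseCmp f)))

/-- Restriction to the simplicial space. -/
abbrev resPart : Sheaf (pTop f) AddCommGrpCat.{u} ⥤
    FibDesc.DSh (FibDesc.topAug YC) (FibDesc.topAugTop YC) AddCommGrpCat.{u} :=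
  resExt f ⋙ (FibDesc.incl (FibDesc.topAug YC)).sheafPushforwardContinuous AddCommGrpCat.{u}
    (FibDesc.totPart (FibDesc.topAug YC) (FibDesc.topAugTop YC)) (FibDesc.totAug (FibDesc.topAug YC) (FibDesc.topAugTop YC))

/-- The inverse image to the simplicial space. -/
def pullIso : FibDesc.pull (FibDesc.topAug YC) (FibDesc.topAugTop YC) AddCommGrpCat.{u} ≅
    fromBase EZ EG ⋙ resPart f :=
  Functor.isoWhiskerRight (extendIso f) _ ≪≫ Functor.associator _ _ _

end Groth.Agent.CohDescTop
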