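import Groth.Agent.SiteBase.RpushD.Single
import Groth.Agent.SiteBase.RpushD.Devissage
import Groth.Agent.TriCat.DerivedOfAdjunction
import Mathlib.CategoryTheory.Adjunction.FullyFaithful
import Mathlib.CategoryTheory.Abelian.GrothendieckCategory.EnoughInjectives

/-!
# Full faithfulness on bounded below derived categories of an exact left adjoint
-/

set_option autoImplicit false
set_option backward.isDefEq.respectTransparency false

universe u

open CategoryTheory CategoryTheory.Limits DerivedCategory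

attribute [local instance] HasDerivedCategory.standard

namespace Groth.Agent.CohDescTop

open SiteBase.RpushD

variable {A : Type (u + 1)} [Category.{u} A] [Abelian A]
  {B : Type (u + 1)} [Category.{u} B] [Abelian B] [IsGrothendieckAbelian.{u} B]

lemma hasRightDerivedFunctor (R : B ⥤ A) [R.Additive] :
    (R.mapHomotopyCategory (ComplexShape.up ℤ) ⋙ DerivedCategory.Qh).HasRightDerivedFunctor
      (HomotopyCategory.quasiIso B (ComplexShape.up ℤ)) := by
  have := qh_isLeftAdjoint (A := B)
  let adjQ := Adjunction.ofIsLeftAdjoint (DerivedCategory.Qh (C := B))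
  let Φ := R.mapHomotopyCategory (ComplexShape.up ℤ) ⋙ DerivedCategory.Qh
  have := TriCat.isRightDerivedFunctor_of_adjunction adjQ (HomotopyCategory.quasiIso B (ComplexShape.up ℤ)) Φ
  exact Functor.HasRightDerivedFunctor.mk' (L := DerivedCategory.Qh) ((DerivedCategory.Qh (C := B)).rightAdjoint ⋙ Φ)
    (Functor.whiskerRight adjQ.unit Φ : Φ ⟶ DerivedCategory.Qh ⋙ (DerivedCategory.Qh (C := B)).rightAdjoint ⋙ Φ)

/-- The unit of the derived adjunction on an object in degree zero. -/
theorem isIso_unit_single {L : A ⥤ B} {R : B ⥤ A} (adj : L ⊣ R) [L.Additive] [R.Additive]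
    [PreservesFiniteLimits L] [PreservesFiniteColimits L] [IsIso adj.unit]
    [(R.mapHomotopyCategory (ComplexShape.up ℤ) ⋙ DerivedCategory.Qh).HasRightDerivedFunctor
      (HomotopyCategory.quasiIso B (ComplexShape.up ℤ))]
    (hR : ∀ (F : A) (q : ℕ), IsZero ((R.rightDerived (q + 1)).obj (L.obj F)))
    (adjD : L.mapDerivedCategory ⊣ RD R) (F : A) :
    IsIso (adjD.unit.app ((singleFunctor A 0).obj F)) := by
  have : PreservesFiniteLimits R :=
    haveI : PreservesLimitsOfSize.{0, 0} R := adj.rightAdjoint_preservesLimits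
    inferInstance
  let sA := singleFunctor A 0
  let sB := singleFunctor B 0
  let Φ := L.mapDerivedCategory
  let e₁ := (L.mapDerivedCategorySingleFunctor 0).app F
  let T : DerivedCategory A := (RD R).obj (Φ.obj (sA.obj F))
  let T' : DerivedCategory A := (RD R).obj (sB.obj (L.obj F))
  have : T'.IsGE 0 := isGE_RD R (sB.obj (L.obj F)) 0
  have : T'.IsLE 0 := (isLE_iff _ _).2 fun i hi => by
    obtain ⟨q, rfl⟩ : ∃ q : ℕ, i = ((q + 1 : ℕ) : ℤ) := ⟨i.toNat - 1, by omega⟩
    obtain ⟨e⟩ := nonempty_homology_RD_single R (L.obj F) (q + 1)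
    exact (hR F q).of_iso e
  obtain ⟨Y, ⟨eY⟩⟩ := exists_iso_singleFunctor_obj_of_isGE_of_isLE T' 0
  obtain ⟨e0⟩ := nonempty_homology_RD_single R (L.obj F) 0
  let eF : Y ≅ F := ((singleFunctorCompHomologyFunctorIso A 0).app Y).symm ≪≫
    (DerivedCategory.homologyFunctor A 0).mapIso eY.symm ≪≫ e0 ≪≫
    R.rightDerivedZeroIsoSelf.app (L.obj F) ≪≫ ((asIso adj.unit).app F).symm
  let e : sA.obj F ≅ T := sA.mapIso eF.symm ≪≫ eY.symm ≪≫ (RD R).mapIso e₁.symm
  let u := adjD.unit.app (sA.obj F)
  -- postcomposition with the unit is bijective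
  have hu : ∀ G : A, Function.Bijective fun a : sA.obj G ⟶ sA.obj F => a ≫ u := fun G => by
    let hL := adj.fullyFaithfulLOfIsIsoUnit
    have := hL.full
    have := hL.faithful
    let eSL := L.mapDerivedCategorySingleFunctor 0
    have : (L ⋙ sB).Full := inferInstance
    have : (L ⋙ sB).Faithful := inferInstance
    have : (sA ⋙ Φ).Full := Functor.Full.of_iso eSL.symm
    have : (sA ⋙ Φ).Faithful := Functor.Faithful.of_iso eSL.symm
    have hΦ : Function.Bijective fun a : sA.obj G ⟶ sA.obj F => Φ.map a := by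
      refine ⟨fun a b h => ?_, fun c => ?_⟩
      · obtain ⟨a, rfl⟩ := sA.map_surjective a
        obtain ⟨b, rfl⟩ := sA.map_surjective b
        exact congrArg sA.map ((sA ⋙ Φ).map_injective h)
      · obtain ⟨a, ha⟩ := (sA ⋙ Φ).map_surjective c
        exact ⟨sA.map a, ha⟩
    have h : (fun a : sA.obj G ⟶ sA.obj F => a ≫ u) = (adjD.homEquiv _ _) ∘ fun a => Φ.map a :=
      funext fun a => (adjD.unit.naturality a).trans (adjD.homEquiv_unit _ _ _).symm
    rw [h]
    exact (adjD.homEquiv _ _).bijective.comp hΦ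
  obtain ⟨v, hv⟩ := (hu F).2 e.hom
  change v ≫ u = e.hom at hv
  refine ⟨e.inv ≫ v, (hu F).1 ?_, (Category.assoc _ _ _).trans ((congrArg (e.inv ≫ ·) hv).trans e.inv_hom_id)⟩
  show (u ≫ e.inv ≫ v) ≫ u = 𝟙 _ ≫ u
  rw [Category.assoc, Category.assoc, hv, Iso.inv_hom_id, Category.comp_id, Category.id_comp]

/-- An exact left adjoint with invertible unit and acyclic image is fully faithful on bounded below
objects. -/
theorem bijective_mapDerivedCategory {L : A ⥤ B} {R : B ⥤ A} (adj : L ⊣ R) [L.Additive]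
    [R.Additive] [PreservesFiniteLimits L] [PreservesFiniteColimits L] [IsIso adj.unit]
    (hR : ∀ (F : A) (q : ℕ), IsZero ((R.rightDerived (q + 1)).obj (L.obj F)))
    (K Y : DerivedCategory A) (n₀ : ℤ) (hY : Y.IsGE n₀) :
    Function.Bijective fun g : K ⟶ Y => L.mapDerivedCategory.map g := by
  have := hasRightDerivedFunctor R
  obtain ⟨adjD⟩ := nonempty_adj R adj
  have := isIso_unit L adjD Y n₀ hY fun q => isIso_unit_single adj hR adjD _
  let Φ := L.mapDerivedCategory
  have h : (fun g : K ⟶ Y => Φ.map g) =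
      (adjD.homEquiv K (Φ.obj Y)).symm ∘ fun g => g ≫ adjD.unit.app Y := funext fun g =>
    ((Equiv.symm_apply_eq _).2 ((adjD.unit.naturality g).trans (adjD.homEquiv_unit _ _ _).symm)).symm
  rw [h]
  refine (Equiv.bijective _).comp ⟨fun a b hab => (cancel_mono _).1 hab, fun c => ?_⟩
  exact ⟨c ≫ inv (adjD.unit.app Y), by simp⟩

/-- A morphism is invertible as soon as postcomposition with it is bijective. -/
lemma isIso_of_comp_bijective {C : Type*} [Category C] {X Y : C} (u : X ⟶ Y)
    (hX : Function.Bijective fun a : X ⟶ X => a ≫ u) (hY : Function.Bijective fun a : Y ⟶ X => a ≫ u) :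
    IsIso u := by
  obtain ⟨v, hv⟩ := hY.2 (𝟙 Y)
  change v ≫ u = 𝟙 Y at hv
  refine ⟨v, hX.1 ?_, hv⟩
  show (u ≫ v) ≫ u = 𝟙 X ≫ u
  rw [Category.assoc, hv, Category.comp_id, Category.id_comp]

/-- Full faithfulness on bounded below objects gives back the criterion. -/
theorem of_bijective {L : A ⥤ B} {R : B ⥤ A} (adj : L ⊣ R) [L.Additive]
    [R.Additive] [PreservesFiniteLimits L] [PreservesFiniteColimits L]
    (h : ∀ (K Y : DerivedCategory A) (a b : ℤ), K.IsGE a → Y.IsGE b →
      Function.Bijective fun g : K ⟶ Y => L.mapDerivedCategory.map g) (F : A) :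
    IsIso (adj.unit.app F) ∧ ∀ q : ℕ, IsZero ((R.rightDerived (q + 1)).obj (L.obj F)) := by
  have := hasRightDerivedFunctor R
  obtain ⟨adjD⟩ := nonempty_adj R adj
  let Φ := L.mapDerivedCategory
  let sA := singleFunctor A 0
  let sB := singleFunctor B 0
  let eSL := L.mapDerivedCategorySingleFunctor 0
  constructor
  · have hL : ∀ G : A, Function.Bijective fun a : G ⟶ F => a ≫ adj.unit.app F := fun G => by
      have e : (fun a : G ⟶ F => a ≫ adj.unit.app F) = (adj.homEquiv _ _) ∘ fun a => L.map a :=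
        funext fun a => (adj.unit.naturality a).trans (adj.homEquiv_unit _ _ _).symm
      rw [e]
      refine (adj.homEquiv _ _).bijective.comp ?_
      have hΦ : Function.Bijective fun a : G ⟶ F => Φ.map (sA.map a) :=
        (h _ _ 0 0 inferInstance inferInstance).comp ⟨sA.map_injective, sA.map_surjective⟩
      have hc : (fun a : G ⟶ F => sB.map (L.map a)) =
          (fun t => eSL.inv.app G ≫ t ≫ eSL.hom.app F) ∘ fun a => Φ.map (sA.map a) := funext fun a => by
        show sB.map (L.map a) = eSL.inv.app G ≫ (sA ⋙ Φ).map a ≫ eSL.hom.app F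
        rw [eSL.hom.naturality, Iso.inv_hom_id_app_assoc]
        rfl
      have hb : Function.Bijective fun a : G ⟶ F => sB.map (L.map a) := by
        rw [hc]
        exact (((eSL.app G).homCongr (eSL.app F)).bijective).comp hΦ
      refine ⟨fun a b e => hb.1 (congrArg sB.map e), fun c => ?_⟩
      obtain ⟨a, ha⟩ := hb.2 (sB.map c)
      exact ⟨a, sB.map_injective ha⟩
    exact isIso_of_comp_bijective _ (hL _) (hL _)
  · intro q
    let u := adjD.unit.app (sA.obj F)
    have hT : ((RD R).obj (Φ.obj (sA.obj F))).IsGE 0 :=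
      isGE_right L adjD _ 0 (isGE_mapDerived L _ 0 inferInstance)
    have hu : ∀ (K : DerivedCategory A) (a : ℤ), K.IsGE a →
        Function.Bijective fun t : K ⟶ sA.obj F => t ≫ u := fun K a hK => by
      have e : (fun t : K ⟶ sA.obj F => t ≫ u) = (adjD.homEquiv _ _) ∘ fun t => Φ.map t :=
        funext fun t => (adjD.unit.naturality t).trans (adjD.homEquiv_unit _ _ _).symm
      rw [e]
      exact (adjD.homEquiv _ _).bijective.comp (h _ _ a 0 hK inferInstance)
    have := isIso_of_comp_bijective u (hu _ 0 (inferInstanceAs ((sA.obj F).IsGE 0))) (hu _ 0 hT)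
    obtain ⟨e⟩ := nonempty_homology_RD_single R (L.obj F) (q + 1)
    refine IsZero.of_iso ?_ e.symm
    exact (isZero_of_isLE (sA.obj F) 0 ((q + 1 : ℕ) : ℤ) (by omega)).of_iso
      ((DerivedCategory.homologyFunctor A ((q + 1 : ℕ) : ℤ)).mapIso
        ((RD R).mapIso (eSL.app F).symm ≪≫ (asIso u).symm))

end Groth.Agent.CohDescTop
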