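/-!
# Index types for families of fibre powers
-/

set_option autoImplicit false

universe u

namespace Groth.Agent.CohDescTop

/-- The index type for two maps with the same target. -/
inductive Idx₂ : Type u
  | fst (p : Nat)
  | snd (p : Nat)

/-- The index type for two maps and their mutual base changes. -/
inductive Idx₄ : Type u
  | uPow (m : Nat)
  | vPow (n : Nat)
  | vOver (m p : Nat)
  | uOver (n p : Nat)

end Groth.Agent.CohDescTop
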