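import Groth.Agent.CohDescTop.Main
import Groth.Agent.SiteBase.DescentSS.LocalSec
import Groth.Agent.SiteBase.LerayTop
import Mathlib.Topology.IsLocalHomeomorph

/-!
# Maps with local sections are of cohomological descent
-/

set_option autoImplicit false
set_option linter.unusedSectionVars false
set_option linter.style.haveILetI false
set_option backward.isDefEq.respectTransparency false
set_option backward.isDefEq.respectTransparency.types false
set_option synthInstance.maxHeartbeats 100000

universe u

open CategoryTheory CategoryTheory.Limits Opposite Simplicial TopologicalSpace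
open Groth.Agent.DescentSS Groth.Agent.ProperDescent

noncomputable section

namespace Groth.Agent.CohDescTop

variable {X S : TopCat.{u}} (f : X ⟶ S)

local notation "EZ" => extZ (powZ f) (powG f)
local notation "EG" => extG (powZ f) (powG f)

variable (hloc : ∀ x : S, ∃ V : Opens S, x ∈ V ∧ Nonempty (Sec f V)) (G : Sheaf (pTop f) AddCommGrpCat.{u})

/-- The presheaf on the site of fibre powers. -/
abbrev powP : (PowOpn f)ᵒᵖ ⥤ AddCommGrpCat.{u} := (Φ f).op ⋙ G.obj

include hloc in
lemma mono_eps : Mono ((ProperDescent.eps f).app G) := by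
  have h : ∀ V : Opens S, Function.Injective (((ProperDescent.eps f).app G).hom.app (op V)).hom := fun V => by
    rw [injective_iff_map_eq_zero]
    intro s hs
    refine opens_separated ((resN f).obj G) s fun x hx => ?_
    obtain ⟨W, hW, hxW, ⟨σ⟩⟩ := DescentSS.exists_small f hloc hx
    refine ⟨W, hW, hxW, (σ.rowExact (powP f G)).injective ?_⟩
    refine (ConcreteCategory.congr_hom (((ProperDescent.eps f).app G).hom.naturality (homOfLE hW).op) s).trans ?_
    exact ((congrArg ((((termF f 0).obj G).obj.map (homOfLE hW).op).hom) hs).trans (map_zero _)).trans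
      (map_zero _).symm
  have : ∀ V, Mono (((ProperDescent.eps f).app G).hom.app V) := fun V =>
    (AddCommGrpCat.mono_iff_injective _).2 (h V.unop)
  have : Mono ((ProperDescent.eps f).app G).hom := NatTrans.mono_of_mono_app _
  exact (sheafToPresheaf _ _).mono_of_mono_map this

include hloc in
theorem isIso_epsH_of_localSections : IsIso ((epsH f).app G) := by
  let K := (eRow f).obj G
  let l := K.liftCycles ((ProperDescent.eps f).app G) 1 (by simp) (eps_d f G)
  have := mono_eps f hloc G
  have : Mono l := mono_of_mono_fac (K.liftCycles_i ((ProperDescent.eps f).app G) 1 (by simp) (eps_d f G))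
  have : Epi l := by
    refine (Sheaf.isLocallySurjective_iff_epi' _ l).1 ⟨fun {V} z => ?_⟩
    intro x hx
    obtain ⟨W, hW, hxW, ⟨σ⟩⟩ := DescentSS.exists_small f hloc hx
    refine ⟨W, homOfLE hW, ?_, hxW⟩
    let z' : (DescentSS.secFun S W).obj (K.cycles 0) := ((K.cycles 0).obj.map (homOfLE hW).op).hom z
    let c := ((DescentSS.secFun S W).map (K.iCycles 0)).hom z'
    have hd : ((DescentSS.secFun S W).map (K.d 0 1)).hom c = 0 := by
      refine (ConcreteCategory.congr_hom ((DescentSS.secFun S W).map_comp (K.iCycles 0) (K.d 0 1)).symm z').trans ?_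
      rw [K.iCycles_d, Functor.map_zero]
      rfl
    have hc : (((cx (eNerve f W)).obj G.obj).d 0 1).hom c = 0 :=
      (ConcreteCategory.congr_hom (eRow_d f G W 0).symm c).trans hd
    rw [cx_d_apply, Fin.sum_univ_two] at hc
    simp only [Fin.val_zero, pow_zero, one_smul, Fin.val_one, pow_one, neg_smul] at hc
    obtain ⟨y, hy⟩ := (σ.rowExact (powP f G)).surjective c (eq_of_sub_eq_zero ((sub_eq_add_neg _ _).trans hc))
    have hinj : Function.Injective ((DescentSS.secFun S W).map (K.iCycles 0)).hom :=
      (AddCommGrpCat.mono_iff_injective _).1 inferInstance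
    refine ⟨y, hinj ?_⟩
    refine (ConcreteCategory.congr_hom ((DescentSS.secFun S W).map_comp l (K.iCycles 0)).symm y).trans ?_
    rw [show l ≫ K.iCycles 0 = (ProperDescent.eps f).app G from K.liftCycles_i _ _ _ _]
    exact hy
  have : IsIso l := isIso_of_mono_of_epi _
  exact inferInstanceAs (IsIso (l ≫ K.homologyπ 0))

include hloc in
/-- A map with local sections is of cohomological descent. -/
theorem isCohDescentMap_of_localSections : FibDesc.IsCohDescentMap f := by
  refine isCohDescentMap_of_rows f (fun F => isIso_epsH_of_localSections f hloc _) fun F R n => ?_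
  have : ∀ G, IsIso ((epsH f).app G) := isIso_epsH_of_localSections f hloc
  have := NatIso.isIso_of_isIso_app (epsH f)
  haveI : (rowH0 f).Additive := additive_rowH0 f
  haveI : (resN f).Additive := inferInstance
  haveI := preservesFiniteColimits_resTo (extZ (powZ f) (powG f)) (extG (powZ f) (powG f)) none
  haveI := preservesFiniteLimits_resTo (extZ (powZ f) (powG f)) (extG (powZ f) (powG f)) none
  refine IsZero.of_iso (LerayDegen.isZero_rightDerived_of_exact (resN f) (gF f F) n) ?_
  exact (HomologicalComplex.homologyFunctor _ _ (n + 1)).mapIso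
      ((NatIso.mapHomologicalComplex (asIso (epsH f)).symm (ComplexShape.up ℕ)).app R.cocomplex) ≪≫
    (R.isoRightDerivedObj (resN f) (n + 1)).symm

section BaseChange

variable {S' : TopCat.{u}} (g : S' ⟶ S)

/-- A point of the base change. -/
lemma exists_fac {Z : TopCat.{u}} (a : Z ⟶ X) (b : Z ⟶ S') (h : a ≫ f = b ≫ g) :
    ∃ c : Z ⟶ pullback f g, c ≫ pullback.snd f g = b :=
  ⟨pullback.lift a b h, pullback.lift_snd _ _ _⟩

include hloc in
theorem localSections_baseChange (x : S') :
    ∃ V : Opens S', x ∈ V ∧ Nonempty (Sec (pullback.snd f g) V) := by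
  obtain ⟨V, hV, ⟨σ⟩⟩ := hloc (g x)
  let W : Opens S' := (Opens.map g).obj V
  let gW : (Opens.toTopCat S').obj W ⟶ (Opens.toTopCat S).obj V :=
    TopCat.ofHom ⟨fun y => ⟨g y.1, y.2⟩, (g.hom.continuous.comp continuous_subtype_val).subtype_mk _⟩
  obtain ⟨c, hc⟩ := exists_fac f g (gW ≫ σ.map) W.inclusion'
    (TopCat.hom_ext (ContinuousMap.ext fun y => σ.w (gW y)))
  exact ⟨W, hV, ⟨⟨c, fun y => ConcreteCategory.congr_hom hc y⟩⟩⟩

include hloc in
/-- A map with local sections is universally of cohomological descent. -/
theorem isUnivCohDescentMap_of_localSections : FibDesc.IsUnivCohDescentMap f := fun _ g =>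
  isCohDescentMap_of_localSections (pullback.snd f g) (localSections_baseChange f hloc g)

end BaseChange

/-- A section gives local sections. -/
theorem localSections_of_section (s : S ⟶ X) (h : s ≫ f = 𝟙 S) (x : S) :
    ∃ V : Opens S, x ∈ V ∧ Nonempty (Sec f V) :=
  ⟨⊤, trivial, ⟨⟨(⊤ : Opens S).inclusion' ≫ s, fun y => ConcreteCategory.congr_hom h y.1⟩⟩⟩

/-- A surjective local homeomorphism has local sections. -/
theorem localSections_of_isLocalHomeomorph (hf : IsLocalHomeomorph f) (hs : Function.Surjective f) (x : S) :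
    ∃ V : Opens S, x ∈ V ∧ Nonempty (Sec f V) := by
  obtain ⟨y, rfl⟩ := hs x
  obtain ⟨e, hy, he⟩ := hf y
  let V : Opens S := ⟨e.target, e.open_target⟩
  refine ⟨V, ?_, ⟨⟨TopCat.ofHom ⟨fun z => e.symm z.1,
    e.continuousOn_symm.comp_continuous continuous_subtype_val fun z => z.2⟩, fun z => ?_⟩⟩⟩
  · show f y ∈ e.target
    rw [he]
    exact e.map_source hy
  · show f (e.symm z.1) = z.1
    rw [he]
    exact e.right_inv z.2

end Groth.Agent.CohDescTop
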