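import Groth.Agent.CohDescTop.Transitive
import Groth.Agent.CohDescTop.LocalSections

/-!
# Cohomological descent is local on the base
-/

set_option autoImplicit false
set_option linter.unusedSectionVars false
set_option linter.style.haveILetI false
set_option backward.isDefEq.respectTransparency false
set_option backward.isDefEq.respectTransparency.types false
set_option synthInstance.maxHeartbeats 100000

universe u

open CategoryTheory CategoryTheory.Limits Opposite Simplicial TopologicalSpace
open Groth.Agent.DescentSS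

noncomputable section

namespace Groth.Agent.CohDescTop

section General

variable {S : TopCat.{u}} {τ : Type u} {Z : τ → TopCat.{u}} {g : ∀ i, Z i ⟶ S}

lemma bijAt_of_iso {M N : Sheaf (covers Z g) AddCommGrpCat.{u}} (φ : M ⟶ N) {c d : Opn Z g} (e : c ≅ d)
    (h : BijAt φ c) : BijAt φ d := by
  have : IsIso (φ.hom.app (op c)) := (ConcreteCategory.isIso_iff_bijective _).2 h
  exact (ConcreteCategory.isIso_iff_bijective _).1 ((NatTrans.isIso_app_iff_of_iso φ.hom e.op.symm).1 this)

/-- Bijectivity on a basis of the base is bijectivity on the base. -/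
theorem bijMem_none_of_basis {M N : Sheaf (covers Z g) AddCommGrpCat.{u}} (φ : M ⟶ N)
    (h : ∀ x : S, ∃ V : Opens S, x ∈ V ∧ ∀ W : Opens S, W ≤ V → BijAt φ (mkObj Z g none W)) :
    BijMem φ none := by
  rw [← isIso_resTo_map_iff]
  let ψ : ((resTo Z g none).obj M : CohTop.Ab S) ⟶ (resTo Z g none).obj N := (resTo Z g none).map φ
  have small : ∀ (U : Opens S) (x : S), x ∈ U → ∃ (W : Opens S) (_ : W ≤ U), x ∈ W ∧ BijAt φ (mkObj Z g none W) :=
    fun U x hx => by
      obtain ⟨V, hxV, hV⟩ := h x
      exact ⟨U ⊓ V, inf_le_left, ⟨hx, hxV⟩, hV _ inf_le_right⟩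
  have hinj : ∀ U : Opens S, Function.Injective (ψ.hom.app (op U)).hom := fun U => by
    rw [injective_iff_map_eq_zero]
    intro s hs
    refine opens_separated ((resTo Z g none).obj M) s fun x hx => ?_
    obtain ⟨W, hW, hxW, hb⟩ := small U x hx
    refine ⟨W, hW, hxW, hb.1 ?_⟩
    refine (ConcreteCategory.congr_hom (ψ.hom.naturality (homOfLE hW).op) s).trans ?_
    exact ((congrArg ((((resTo Z g none).obj N).obj.map (homOfLE hW).op).hom) hs).trans (map_zero _)).trans
      (map_zero _).symm
  have : ∀ U, Mono (ψ.hom.app U) := fun U => (AddCommGrpCat.mono_iff_injective _).2 (hinj U.unop)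
  have : Mono ψ.hom := NatTrans.mono_of_mono_app _
  have : Mono ψ := (sheafToPresheaf _ _).mono_of_mono_map this
  have : Epi ψ := by
    refine (Sheaf.isLocallySurjective_iff_epi' _ ψ).1 ⟨fun {U} z => ?_⟩
    intro x hx
    obtain ⟨W, hW, hxW, hb⟩ := small U x hx
    refine ⟨W, homOfLE hW, ?_, hxW⟩
    exact hb.2 ((((resTo Z g none).obj N).obj.map (homOfLE hW).op).hom z)
  show IsIso ψ
  exact isIso_of_mono_of_epi ψ

end General

variable {X S : TopCat.{u}} (u : X ⟶ S) {ι : Type u} (V : ι → Opens S)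

/-- The inclusion of a member of the covering. -/
abbrev vIncl (i : ι) : TopCat.of (V i) ⟶ S := TopCat.ofHom ⟨Subtype.val, continuous_subtype_val⟩

/-- The index type. -/
abbrev IdxV : Type u := ι ⊕ ((ι × ULift.{u} ℕ) ⊕ ULift.{u} ℕ)

/-- The spaces. -/
abbrev ZV (a : IdxV (ι := ι)) : TopCat.{u} :=
  match a with
  | .inl i => TopCat.of (V i)
  | .inr (.inl (i, p)) => powX (pullback.snd u (vIncl V i)) p.down
  | .inr (.inr p) => powX u p.down

/-- The structure maps. -/
abbrev gV (a : IdxV (ι := ι)) : ZV u V a ⟶ S :=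
  match a with
  | .inl i => vIncl V i
  | .inr (.inl (i, p)) => powG (pullback.snd u (vIncl V i)) ⟨p.down⟩ ≫ vIncl V i
  | .inr (.inr p) => powG u ⟨p.down⟩

/-- The chart over a member. -/
def chartAt (i : ι) : Chart (ZV u V) (gV u V) where
  o₀ := some (.inl i)
  A := pullback u (vIncl V i)
  f := pullback.snd u (vIncl V i)
  e p := some (.inr (.inl (i, ⟨p⟩)))
  φ _ := Iso.refl _
  φw p := Category.id_comp _

/-- The chart over the base. -/
def chartTop : Chart (ZV u V) (gV u V) where
  o₀ := none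
  A := X
  f := u
  e p := some (.inr (.inr ⟨p⟩))
  φ _ := Iso.refl _
  φw p := (Category.id_comp _).trans (Category.comp_id _)

/-- A small open of the base and the same open of a member. -/
def smallIso (i : ι) (W : Opens S) (hW : W ≤ V i) :
    mkObj (ZV u V) (gV u V) (some (.inl i)) ((Opens.map (vIncl V i)).obj W) ≅ mkObj (ZV u V) (gV u V) none W where
  hom := mkHom (ZV u V) (gV u V) (TopCat.ofHom ⟨fun x => ⟨(x.1 : V i).1, x.2⟩,
    (continuous_subtype_val.comp continuous_subtype_val).subtype_mk _⟩) fun _ => rfl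
  inv := mkHom (ZV u V) (gV u V) (TopCat.ofHom ⟨fun x => ⟨⟨x.1, hW x.2⟩, x.2⟩,
    (continuous_subtype_val.subtype_mk _).subtype_mk _⟩) fun _ => rfl
  hom_inv_id := opn_hom_ext (ZV u V) (gV u V) fun _ => rfl
  inv_hom_id := opn_hom_ext (ZV u V) (gV u V) fun _ => rfl

/-- Descent is local on the base. -/
theorem isCohDescentMap_of_cover (hV : iSup V = ⊤)
    (h : ∀ i, FibDesc.IsCohDescentMap (pullback.snd u (vIncl V i))) : FibDesc.IsCohDescentMap u := by
  refine isCohDescentMap_of_descAt fun G => DescAt.of_iso ?_ (pullIdIso G)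
  let R := injectiveResolution ((fromBase (ZV u V) (gV u V)).obj G)
  have hU : (chartTop u V).IsBaseChange u :=
    ⟨⟨𝟙 _, (Category.id_comp _).trans (Category.comp_id _).symm⟩, fun {T} t b e =>
      ⟨t, e.trans (Category.comp_id _)⟩⟩
  have hi : ∀ i, (chartAt u V i).IsBaseChange u := fun i =>
    ⟨⟨pullback.fst _ _, pullback.condition⟩, fun {T} t b e => ⟨pullback.lift t b e, pullback.lift_snd _ _ _⟩⟩
  refine (bijMem_iff_descAt _ hU R).1 fun q => bijMem_none_of_basis _ fun x => ?_
  obtain ⟨i, hx⟩ := Opens.mem_iSup.1 (hV ▸ trivial : x ∈ iSup V)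
  refine ⟨V i, hx, fun W hW => bijAt_of_iso _ (smallIso u V i W hW) ?_⟩
  exact (bijMem_iff_descAt _ (hi i) R).2 (descAt_of_isCohDescentMap (f := (chartAt u V i).f) (h i) _) q _

end Groth.Agent.CohDescTop
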