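import Groth.Agent.CohDescTop.Compare
import Groth.Agent.CohDescTop.Acyclic
import Groth.Agent.CohDescTop.Criterion
import Groth.Agent.SiteBase.DerivedPrecompAcyclic
import Groth.Prelude.Def_FibDesc

/-!
# Cohomological descent of a map from the rows on the site of fibre powers
-/

set_option autoImplicit false
set_option linter.unusedSectionVars false
set_option linter.style.haveILetI false
set_option backward.isDefEq.respectTransparency false
set_option backward.isDefEq.respectTransparency.types false
set_option synthInstance.maxHeartbeats 100000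

universe u

open CategoryTheory CategoryTheory.Limits Opposite Simplicial TopologicalSpace Pseudofunctor.CoGrothendieck
open Groth.Agent.DescentSS Groth.Agent.ProperDescent

noncomputable section

attribute [local instance] HasDerivedCategory.standard

namespace Groth.Agent.CohDescTop

/-- A right exact functor preserving monomorphisms is left exact. -/
theorem lex_of_mono {A B : Type*} [Category A] [Category B] [Abelian A] [Abelian B] (L : A ⥤ B) [L.Additive]
    [PreservesFiniteColimits L] (h : ∀ {M N : A} (a : M ⟶ N), Mono a → Mono (L.map a)) :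
    PreservesFiniteLimits L := by
  have t := (Functor.exact_tfae L).out 0 3
  refine (t.1 fun T hT => ?_).1
  have := hT.epi_g
  exact ShortComplex.ShortExact.mk'
    (ShortComplex.exact_of_g_is_cokernel _ (CokernelCofork.mapIsColimit _ hT.gIsCokernel L))
    (h T.f hT.mono_f) (inferInstanceAs (Epi (L.map T.g)))

variable {X S : TopCat.{u}} (f : X ⟶ S)

local notation "EZ" => extZ (powZ f) (powG f)
local notation "EG" => extG (powZ f) (powG f)
local notation "YC" => FibDesc.cechAug f

lemma mono_fromBase_map {A B : CohTop.Ab S} (a : A ⟶ B) [Mono a] : Mono ((fromBase EZ EG).map a) := by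
  have h : ∀ o, Mono ((resTo EZ EG o).map ((fromBase EZ EG).map a)) := fun o =>
    haveI : (CohTop.pull (str EZ EG o)).PreservesMonomorphisms := inferInstance
    haveI := Functor.preservesMonomorphisms.of_iso (resFromBase EZ EG o).symm
    (fromBase EZ EG ⋙ resTo EZ EG o).map_mono a
  have : ∀ c, Mono (((fromBase EZ EG).map a).hom.app c) := by
    rintro ⟨⟨o, U⟩⟩
    have := h o
    exact (AddCommGrpCat.mono_iff_injective _).2 ((AddCommGrpCat.mono_iff_injective
      ((DescentSS.secFun _ U).map ((resTo EZ EG o).map ((fromBase EZ EG).map a)))).1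
        ((DescentSS.secFun _ U).map_mono _))
  have : Mono ((fromBase EZ EG).map a).hom := NatTrans.mono_of_mono_app _
  exact (sheafToPresheaf _ _).mono_of_mono_map this

instance preservesFiniteColimits_fromBase : PreservesFiniteColimits (fromBase EZ EG) :=
  haveI : PreservesColimitsOfSize.{0, 0} (fromBase EZ EG) :=
    ((opnFunctor EZ EG none).sheafAdjunctionContinuous AddCommGrpCat.{u}
      (Opens.grothendieckTopology (sp (S := S) EZ none)) (pTop f)).leftAdjoint_preservesColimits
  inferInstance

instance additive_fromBase : (fromBase EZ EG).Additive :=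
  ((opnFunctor EZ EG none).sheafAdjunctionContinuous AddCommGrpCat.{u}
      (Opens.grothendieckTopology (sp (S := S) EZ none)) (pTop f)).left_adjoint_additive

instance preservesFiniteLimits_fromBase : PreservesFiniteLimits (fromBase EZ EG) :=
  lex_of_mono (fromBase EZ EG) fun a _ => mono_fromBase_map f a

instance preservesFiniteLimits_resExt : PreservesFiniteLimits (resExt f) :=
  haveI : PreservesLimitsOfSize.{0, 0} (resExt f) :=
    ((extFun f).sheafAdjunctionContinuous AddCommGrpCat.{u} _ (pTop f)).rightAdjoint_preservesLimits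
  inferInstance

instance preservesFiniteColimits_resExt : PreservesFiniteColimits (resExt f) :=
  haveI : PreservesColimitsOfSize.{0, 0} (resExt f) :=
    ((extFun f).sheafAdjunctionCocontinuous AddCommGrpCat.{u} _ (pTop f)).leftAdjoint_preservesColimits
  inferInstance

/-- Restriction along the inclusion of the simplicial part. -/
abbrev resIncl :=
  (FibDesc.incl (FibDesc.topAug YC)).sheafPushforwardContinuous AddCommGrpCat.{u}
    (FibDesc.totPart (FibDesc.topAug YC) (FibDesc.topAugTop YC)) (FibDesc.totAug (FibDesc.topAug YC) (FibDesc.topAugTop YC))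

instance preservesFiniteLimits_resIncl : PreservesFiniteLimits (resIncl f) :=
  haveI : PreservesLimitsOfSize.{0, 0} (resIncl f) :=
    ((FibDesc.incl (FibDesc.topAug YC)).sheafAdjunctionContinuous AddCommGrpCat.{u}
      (FibDesc.totPart _ _) (FibDesc.totAug _ _)).rightAdjoint_preservesLimits
  inferInstance

instance preservesFiniteColimits_resIncl : PreservesFiniteColimits (resIncl f) :=
  haveI : PreservesColimitsOfSize.{0, 0} (resIncl f) :=
    ((FibDesc.incl (FibDesc.topAug YC)).sheafAdjunctionCocontinuous AddCommGrpCat.{u}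
      (FibDesc.totPart _ _) (FibDesc.totAug _ _)).leftAdjoint_preservesColimits
  inferInstance

instance preservesFiniteLimits_resPart : PreservesFiniteLimits (resPart f) :=
  comp_preservesFiniteLimits (resExt f) (resIncl f)

instance preservesFiniteColimits_resPart : PreservesFiniteColimits (resPart f) :=
  comp_preservesFiniteColimits (resExt f) (resIncl f)

instance additive_resPart : (resPart f).Additive where

/-- The functor on the simplicial object over an open. -/
lemma extFun_nv (V : Opens S) {m n : SimplexCategoryᵒᵖ} (φ : m ⟶ n) :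
    (extFun f).map ((FibDesc.incl (FibDesc.topAug YC)).map ((nv YC V).map φ)) = (eNerve f V).map φ := by
  refine hom_ext_coord f fun i => TopCat.hom_ext (ContinuousMap.ext fun x => ?_)
  show prj f i ((YC).map ((FibDesc.toAug SimplexCategory).map φ) x.1) =
    prj f i (fn EZ EG ((Φ f).map (reidx f φ.unop.toOrderHom V)) x).1
  refine Eq.trans ?_ (Eq.trans (prj_reidx f φ.unop.toOrderHom V i ⟨x.1, x.2⟩).symm
    (congrArg (prj f i) (ptOf_map (powZ f) (powG f) (reidx f φ.unop.toOrderHom V) x ⟨x.1, x.2⟩ rfl).symm))
  exact ConcreteCategory.congr_hom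
    (WidePullback.lift_π (arrows := fun _ : Fin (n.unop.len + 1) => f) _ _ _ i) x.1

lemma cx_resPart_d (V : Opens S) (G : Sheaf (pTop f) AddCommGrpCat.{u}) (n : ℕ) :
    ((DescentSS.cx (nv YC V)).obj ((resPart f).obj G).obj).d n (n + 1) =
      ((DescentSS.cx (eNerve f V)).obj G.obj).d n (n + 1) := by
  rw [cx_d, cx_d]
  refine Finset.sum_congr rfl fun i _ => congrArg (((-1 : ℤ) ^ (i : ℕ)) • ·) ?_
  exact congrArg (fun t => G.obj.map (Quiver.Hom.op t)) (extFun_nv f V _)

theorem isGood_resPart (I : Sheaf (pTop f) AddCommGrpCat.{u}) [Injective I] :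
    IsGood YC ((resPart f).obj I) where
  flasque i := ⟨fun {U V} k => by
    have h := (isFlasque_resTo EZ EG (pIdx i.unop.len) I).epi k
    rw [AddCommGrpCat.epi_iff_surjective] at h ⊢
    intro y
    obtain ⟨x, hx⟩ := h y
    refine ⟨x, Eq.trans ?_ hx⟩
    refine congrArg (fun t => (I.obj.map (Quiver.Hom.op t)).hom x) (opn_hom_ext EZ EG fun z => ?_)
    show (YC).map ((FibDesc.toAug SimplexCategory).map (𝟙 i)) z.1 = z.1
    rw [(FibDesc.toAug SimplexCategory).map_id, CategoryTheory.Functor.map_id]
    rfl⟩
  rows W p := by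
    have h := exactAt_eNerve f I W p
    rw [HomologicalComplex.exactAt_iff_isZero_homology] at h ⊢
    let e : (DescentSS.cx (nv YC W)).obj ((resPart f).obj I).obj ≅ (DescentSS.cx (eNerve f W)).obj I.obj :=
      HomologicalComplex.Hom.isoOfComponents (fun _ => Iso.refl _) (fun i j hij => by
        obtain rfl : i + 1 = j := hij
        exact (Category.id_comp _).trans ((cx_resPart_d f W I i).symm.trans (Category.comp_id _).symm))
    exact h.of_iso ((HomologicalComplex.homologyFunctor _ _ (p + 1)).mapIso e)

section RowCmp

variable (G : Sheaf (pTop f) AddCommGrpCat.{u})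

/-- The component at degree zero. -/
def pushTerm : (pushY YC).obj ((resPart f).obj G) ⟶ (termF f 0).obj G :=
  ⟨{ app := fun V => π0 YC V.unop ((resPart f).obj G)
     naturality := fun V W k => by
      refine (π0_restrict YC (V := (W.unop : Opens S)) (V.unop : Opens S) ((resPart f).obj G) (leOfHom (show (W.unop : Opens S) ⟶ V.unop from k.unop))).trans ?_
      refine congrArg (fun t => π0 YC V.unop ((resPart f).obj G) ≫ G.obj.map (Quiver.Hom.op t)) ?_
      refine opn_hom_ext EZ EG fun z => ?_
      show (YC).map ((FibDesc.toAug SimplexCategory).map (𝟙 (op ⦋0⦌))) z.1 = z.1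
      rw [(FibDesc.toAug SimplexCategory).map_id, CategoryTheory.Functor.map_id]
      rfl }⟩

lemma pushTerm_d : pushTerm f G ≫ ((eRow f).obj G).d 0 1 = 0 := by
  refine Sheaf.hom_ext (NatTrans.ext (funext fun V => AddCommGrpCat.hom_ext (AddMonoidHom.ext fun a => ?_)))
  refine (ConcreteCategory.congr_hom (eRow_d f G V.unop 0) ((π0 YC V.unop ((resPart f).obj G)).hom a)).trans ?_
  refine (ConcreteCategory.congr_hom (cx_resPart_d f V.unop G 0).symm _).trans ?_
  exact (cx_d_zero YC _ V.unop _).trans (sub_eq_zero.2 (π0_cocycle YC V.unop _ a))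

/-- Into the cycles. -/
def pushCycles : (pushY YC).obj ((resPart f).obj G) ⟶ ((eRow f).obj G).cycles 0 :=
  ((eRow f).obj G).liftCycles (pushTerm f G) 1 (by simp) (pushTerm_d f G)

lemma pushCycles_i : pushCycles f G ≫ ((eRow f).obj G).iCycles 0 = pushTerm f G :=
  ((eRow f).obj G).liftCycles_i _ _ _ _

lemma pushCycles_i_apply (V : Opens S) (a : ((pushY YC).obj ((resPart f).obj G)).obj.obj (op V)) :
    ((DescentSS.secFun S V).map (((eRow f).obj G).iCycles 0)).hom
      (((DescentSS.secFun S V).map (pushCycles f G)).hom a) = (π0 YC V ((resPart f).obj G)).hom a := by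
  refine (ConcreteCategory.congr_hom ((DescentSS.secFun S V).map_comp (pushCycles f G) _).symm a).trans ?_
  rw [pushCycles_i]
  rfl

lemma isIso_pushCycles : IsIso (pushCycles f G) := by
  have : ∀ V, IsIso ((pushCycles f G).hom.app V) := fun V => by
    refine (ConcreteCategory.isIso_iff_bijective _).2 ⟨fun a b hab => ?_, fun z => ?_⟩
    · refine π0_injective YC V.unop _ ?_
      rw [← pushCycles_i_apply, ← pushCycles_i_apply]
      exact congrArg _ hab
    · let K := (eRow f).obj G
      have hinj : Function.Injective ((DescentSS.secFun S V.unop).map (K.iCycles 0)).hom :=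
        (AddCommGrpCat.mono_iff_injective _).1 inferInstance
      let x := ((DescentSS.secFun S V.unop).map (K.iCycles 0)).hom z
      have hd : ((DescentSS.secFun S V.unop).map (K.d 0 1)).hom x = 0 := by
        refine (ConcreteCategory.congr_hom ((DescentSS.secFun S V.unop).map_comp (K.iCycles 0) (K.d 0 1)).symm z).trans ?_
        rw [K.iCycles_d, Functor.map_zero]
        rfl
      have hx : (((DescentSS.cx (nv YC V.unop)).obj ((resPart f).obj G).obj).d 0 1).hom x = 0 :=
        (ConcreteCategory.congr_hom (cx_resPart_d f V.unop G 0) x).trans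
          ((ConcreteCategory.congr_hom (eRow_d f G V.unop 0).symm x).trans hd)
      obtain ⟨a, ha⟩ := exists_π0_eq YC V.unop ((resPart f).obj G) x
        (sub_eq_zero.1 ((cx_d_zero YC ((resPart f).obj G).obj V.unop x).symm.trans hx))
      exact ⟨a, hinj ((pushCycles_i_apply f G V.unop a).trans ha)⟩
  have : IsIso (pushCycles f G).hom := NatIso.isIso_of_isIso_app _
  have : IsIso ((sheafToPresheaf _ _).map (pushCycles f G)) := show IsIso (pushCycles f G).hom from this
  exact isIso_of_reflects_iso _ (sheafToPresheaf _ _)

end RowCmp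

/-- The direct image of a restriction is the degree zero homology of the rows. -/
def pushH : resPart f ⋙ pushY YC ⟶ rowH0 f where
  app G := pushCycles f G ≫ ((eRow f).obj G).homologyπ 0
  naturality G G' a := by
    show (pushY YC).map ((resPart f).map a) ≫ pushCycles f G' ≫ _ =
      (pushCycles f G ≫ _) ≫ HomologicalComplex.homologyMap ((eRow f).map a) 0
    rw [Category.assoc, HomologicalComplex.homologyπ_naturality, ← Category.assoc, ← Category.assoc]
    congr 1
    rw [← cancel_mono (((eRow f).obj G').iCycles 0), Category.assoc, Category.assoc, pushCycles_i,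
      HomologicalComplex.cyclesMap_i, ← Category.assoc, pushCycles_i]
    exact Sheaf.hom_ext (NatTrans.ext (funext fun V => π0_natural YC V.unop ((resPart f).map a)))

instance isIso_pushH : IsIso (pushH f) := by
  have : ∀ G, IsIso ((pushH f).app G) := fun G =>
    haveI := isIso_pushCycles f G
    inferInstanceAs (IsIso (pushCycles f G ≫ ((eRow f).obj G).homologyπ 0))
  exact NatIso.isIso_of_isIso_app _

instance additive_rowH0 : (rowH0 f).Additive := inferInstanceAs
  (eRow f ⋙ HomologicalComplex.homologyFunctor (CohTop.Ab S) (ComplexShape.up ℕ) 0).Additive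

/-- Cohomological descent from the rows. -/
theorem isCohDescentMap_of_rows (heps : ∀ F : CohTop.Ab S, IsIso ((epsH f).app (gF f F)))
    (hrows : ∀ (F : CohTop.Ab S) (R : InjectiveResolution (gF f F)) (n : ℕ),
      IsZero ((((rowH0 f).mapHomologicalComplex (ComplexShape.up ℕ)).obj R.cocomplex).homology (n + 1))) :
    FibDesc.IsCohDescentMap f := by
  let adj := FibDesc.adj (FibDesc.topAug YC) (FibDesc.topAugTop YC) AddCommGrpCat.{u}
  let θ : resPart f ⋙ pushY YC ≅ rowH0 f := asIso (pushH f)
  have hlex : PreservesFiniteLimits (FibDesc.pull (FibDesc.topAug YC) (FibDesc.topAugTop YC) AddCommGrpCat.{u}) :=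
    haveI : PreservesFiniteLimits (fromBase EZ EG ⋙ resPart f) :=
      comp_preservesFiniteLimits (fromBase EZ EG) (resPart f)
    preservesFiniteLimits_of_natIso (pullIso f).symm
  have hh : ∀ F : CohTop.Ab S, IsIso ((Functor.whiskerLeft (fromBase EZ EG) (epsH f)).app F) := heps
  have := NatIso.isIso_of_isIso_app (Functor.whiskerLeft (fromBase EZ EG) (epsH f))
  let ei : FibDesc.pull (FibDesc.topAug YC) (FibDesc.topAugTop YC) AddCommGrpCat.{u} ⋙ pushY YC ≅ 𝟭 _ :=
    Functor.isoWhiskerRight (pullIso f) _ ≪≫ Functor.associator _ _ _ ≪≫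
      Functor.isoWhiskerLeft (fromBase EZ EG) θ ≪≫ (asIso (Functor.whiskerLeft (fromBase EZ EG) (epsH f))).symm ≪≫
      resFromBase EZ EG none ≪≫
      (TopCat.Sheaf.pullbackPushforwardAdjunction AddCommGrpCat.{u} (𝟙 S)).leftAdjointUniq
        (Adjunction.id.ofNatIsoRight (Iso.refl _))
  have := adj.isIso_unit_of_iso ei
  have : PreservesFiniteLimits (pushY YC) :=
    haveI : PreservesLimitsOfSize.{0, 0} (pushY YC) := inferInstance
    inferInstance
  have hR : ∀ (F : CohTop.Ab S) (q : ℕ), IsZero (((pushY YC).rightDerived (q + 1)).obj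
      ((FibDesc.pull (FibDesc.topAug YC) (FibDesc.topAugTop YC) AddCommGrpCat.{u}).obj F)) := fun F q => by
    obtain ⟨e⟩ := SiteBase.nonempty_rightDerived_precomp_of_acyclic (E := resPart f) (G := pushY YC)
      (fun Q hQ i => isZero_rightDerived_pushY YC _ (haveI := hQ; isGood_resPart f Q) i) (q + 1)
    let R := injectiveResolution (gF f F)
    haveI : (rowH0 f).PreservesZeroMorphisms := @Functor.preservesZeroMorphisms_of_additive _ _ _ _ _ _ (rowH0 f) (additive_rowH0 f)
    refine IsZero.of_iso (hrows F R q) ?_
    exact ((pushY YC).rightDerived (q + 1)).mapIso ((pullIso f).app F) ≪≫ (e.app (gF f F)).symm ≪≫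
      R.isoRightDerivedObj (resPart f ⋙ pushY YC) (q + 1) ≪≫
      (HomologicalComplex.homologyFunctor _ _ (q + 1)).mapIso
        ((NatIso.mapHomologicalComplex θ (ComplexShape.up ℕ)).app R.cocomplex)
  refine ⟨inferInstance, inferInstance, inferInstance, inferInstance, inferInstance, hlex, fun K L => ?_⟩
  obtain ⟨n, hn⟩ := L.property
  exact bijective_mapDerivedCategory adj hR K.obj L.obj n hn

end Groth.Agent.CohDescTop
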