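import Groth.Agent.FibSiteLib.Total
import Groth.Prelude.Def_FibDesc
import Mathlib.AlgebraicTopology.SimplicialObject.Basic

/-!
# The total sites of an augmented simplicial space
-/

set_option autoImplicit false
set_option linter.unusedSectionVars false
set_option backward.isDefEq.respectTransparency false
set_option backward.isDefEq.respectTransparency.types false

universe u

open CategoryTheory CategoryTheory.Limits Opposite TopologicalSpace Pseudofunctor.CoGrothendieck

noncomputable section

namespace Groth.Agent.CohDescTop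

open FibDesc

variable (Y : (WithInitial SimplexCategory)ᵒᵖ ⥤ TopCat.{u})

/-- The augmented total category. -/
abbrev Tot : Type u := ∫ᶜ (topAug Y)

/-- The total category of the simplicial part. -/
abbrev Part : Type u := ∫ᶜ (part (topAug Y))

theorem isPreFibSite : FibSite.IsPreFibSite (topAug Y) (topAugTop Y) :=
  fun _ _ f => inferInstanceAs ((Opens.map (Y.map f)).IsContinuous (Opens.grothendieckTopology _) _)

theorem isPreFibSite_part : FibSite.IsPreFibSite (part (topAug Y)) (partTop (topAug Y) (topAugTop Y)) :=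
  fun _ _ f => isPreFibSite Y ((toAug SimplexCategory).map f)

lemma opens_hom_eq {Z : TopCat.{u}} {U V : Opens Z} (a b : U ⟶ V) : a = b := Subsingleton.elim a b

/-- Morphisms are determined by the base. -/
lemma tot_ext {c d : Tot Y} {a b : c ⟶ d} (h : a.base = b.base) : a = b :=
  Hom.ext a b h (opens_hom_eq (Z := Y.obj c.base) _ _)

lemma part_ext {c d : Part Y} {a b : c ⟶ d} (h : a.base = b.base) : a = b :=
  Hom.ext a b h (opens_hom_eq (Z := Y.obj ((toAug SimplexCategory).obj c.base)) _ _)

/-- An object. -/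
abbrev obT (i : (WithInitial SimplexCategory)ᵒᵖ) (U : Opens (Y.obj i)) : Tot Y := ⟨i, U⟩

/-- An object of the part. -/
abbrev obP (i : SimplexCategoryᵒᵖ) (U : Opens (Y.obj ((toAug SimplexCategory).obj i))) : Part Y := ⟨i, U⟩

/-- A morphism from an inclusion of opens. -/
def homT {i j : (WithInitial SimplexCategory)ᵒᵖ} (f : i ⟶ j) {U : Opens (Y.obj i)} {V : Opens (Y.obj j)}
    (h : U ≤ (Opens.map (Y.map f)).obj V) : obT Y i U ⟶ obT Y j V :=
  ⟨f, (homOfLE h : U ⟶ _)⟩

/-- A morphism of the part from an inclusion of opens. -/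
def homP {i j : SimplexCategoryᵒᵖ} (f : i ⟶ j) {U : Opens (Y.obj ((toAug SimplexCategory).obj i))}
    {V : Opens (Y.obj ((toAug SimplexCategory).obj j))}
    (h : U ≤ (Opens.map (Y.map ((toAug SimplexCategory).map f))).obj V) : obP Y i U ⟶ obP Y j V :=
  ⟨f, (homOfLE h : U ⟶ _)⟩

/-- The open of an object. -/
def opT (c : Tot Y) : Opens (Y.obj c.base) := c.fiber

lemma le_of_homT {c d : Tot Y} (a : c ⟶ d) : opT Y c ≤ (Opens.map (Y.map a.base)).obj (opT Y d) :=
  leOfHom (show opT Y c ⟶ (Opens.map (Y.map a.base)).obj (opT Y d) from a.fiber)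

/-- The fibres of the part and of the whole agree. -/
def fibreIso (i : SimplexCategoryᵒᵖ) :
    ι (part (topAug Y)) i ⋙ FibDesc.incl (topAug Y) ≅ ι (topAug Y) ((toAug SimplexCategory).obj i) :=
  NatIso.ofComponents (fun _ => Iso.refl _) fun {U V} g => by
    refine tot_ext Y ?_
    simp [ι]

instance isContinuous_eps :
    (eps (topAug Y)).IsContinuous (topAugTop Y (bot SimplexCategory)) (totAug (topAug Y) (topAugTop Y)) :=
  FibSiteLib.isContinuous_ι (isPreFibSite Y) _

instance isCocontinuous_eps :
    (eps (topAug Y)).IsCocontinuous (topAugTop Y (bot SimplexCategory)) (totAug (topAug Y) (topAugTop Y)) :=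
  FibSiteLib.isCocontinuous_ι (isPreFibSite Y) _

instance isContinuous_incl :
    (FibDesc.incl (topAug Y)).IsContinuous (totPart (topAug Y) (topAugTop Y)) (totAug (topAug Y) (topAugTop Y)) :=
  (FibSiteLib.isContinuous_total_iff (isPreFibSite_part Y) _ _).2 fun i =>
    haveI := FibSiteLib.isContinuous_ι (isPreFibSite Y) ((toAug SimplexCategory).obj i)
    Functor.isContinuous_of_iso (fibreIso Y i).symm _ _

instance isCocontinuous_incl :
    (FibDesc.incl (topAug Y)).IsCocontinuous (totPart (topAug Y) (topAugTop Y)) (totAug (topAug Y) (topAugTop Y)) where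
  cover_lift {c T} hT := by
    obtain ⟨T', hT', hle⟩ := (FibSiteLib.mem_totalTopology_iff (isPreFibSite Y) _ T).1 hT
    refine (FibSiteLib.mem_totalTopology_iff (isPreFibSite_part Y) _ _).2 ⟨T', hT', ?_⟩
    rintro W _ ⟨U, g, k, hg, rfl⟩
    show T ((FibDesc.incl (topAug Y)).map (k ≫ (ι (part (topAug Y)) c.base).map g))
    rw [Functor.map_comp]
    refine T.downward_closed ?_ _
    have e : (FibDesc.incl (topAug Y)).map ((ι (part (topAug Y)) c.base).map g) =
        (ι (topAug Y) ((toAug SimplexCategory).obj c.base)).map g := tot_ext Y (by simp [ι])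
    exact e ▸ hle _ (Sieve.image_mem_functorPushforward _ _ hg)

instance hasPointwiseRan (P : (Part Y)ᵒᵖ ⥤ AddCommGrpCat.{u}) :
    (FibDesc.incl (topAug Y)).op.HasPointwiseRightKanExtension P := inferInstance

instance isRightAdjoint_eps :
    ((eps (topAug Y)).sheafPushforwardContinuous AddCommGrpCat.{u} (topAugTop Y (bot SimplexCategory))
      (totAug (topAug Y) (topAugTop Y))).IsRightAdjoint := inferInstance

/-- The map to the base point. -/
def toBot (i : (WithInitial SimplexCategory)ᵒᵖ) : i ⟶ bot SimplexCategory :=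
  (WithInitial.starInitial.to i.unop).op

lemma toBot_unique {i : (WithInitial SimplexCategory)ᵒᵖ} (a b : i ⟶ bot SimplexCategory) : a = b :=
  Quiver.Hom.unop_inj (WithInitial.starInitial.hom_ext _ _)

/-- The structure maps. -/
abbrev gY (i : (WithInitial SimplexCategory)ᵒᵖ) : Y.obj i ⟶ Y.obj (bot SimplexCategory) := Y.map (toBot i)

lemma gY_w {i j : (WithInitial SimplexCategory)ᵒᵖ} (f : i ⟶ j) : Y.map f ≫ gY Y j = gY Y i := by
  rw [gY, ← Y.map_comp]
  exact congrArg Y.map (toBot_unique _ _)

/-- The preimage of an open of the base. -/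
abbrev preY (i : (WithInitial SimplexCategory)ᵒᵖ) (W : Opens (Y.obj (bot SimplexCategory))) : Opens (Y.obj i) :=
  (Opens.map (gY Y i)).obj W

lemma preY_le {i j : (WithInitial SimplexCategory)ᵒᵖ} (f : i ⟶ j) (W : Opens (Y.obj (bot SimplexCategory))) :
    preY Y i W ≤ (Opens.map (Y.map f)).obj (preY Y j W) := fun x hx => by
  show gY Y j (Y.map f x) ∈ W
  rw [show gY Y j (Y.map f x) = gY Y i x from ConcreteCategory.congr_hom (gY_w Y f) x]
  exact hx

/-- The simplicial object over an open of the base. -/
def nv (W : Opens (Y.obj (bot SimplexCategory))) : SimplicialObject (Part Y) where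
  obj n := obP Y n (preY Y _ W)
  map f := homP Y f (preY_le Y _ W)
  map_id n := part_ext Y rfl
  map_comp f g := part_ext Y rfl

end Groth.Agent.CohDescTop
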