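import Groth.Agent.CohDescTop.ChartDesc
import Groth.Agent.CohDescTop.Main
import Groth.Agent.CohDescTop.Idx

/-!
# Descent is local for descent
-/

set_option autoImplicit false
set_option linter.unusedSectionVars false
set_option linter.style.haveILetI false
set_option backward.isDefEq.respectTransparency false
set_option backward.isDefEq.respectTransparency.types false
set_option synthInstance.maxHeartbeats 100000

universe u

open CategoryTheory CategoryTheory.Limits Opposite Simplicial TopologicalSpace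
open Groth.Agent.DescentSS

noncomputable section

attribute [local instance] HasDerivedCategory.standard

namespace Groth.Agent.CohDescTop

/-- The conditions at one sheaf. -/
def DescAt {X S : TopCat.{u}} (f : X ⟶ S) (G : CohTop.Ab S) : Prop :=
  IsIso ((FibDesc.adj (FibDesc.topAug (FibDesc.cechAug f)) (FibDesc.topAugTop (FibDesc.cechAug f))
      AddCommGrpCat.{u}).unit.app G) ∧
    ∀ q, IsZero (((pushY (FibDesc.cechAug f)).rightDerived (q + 1)).obj
      ((FibDesc.pull (FibDesc.topAug (FibDesc.cechAug f)) (FibDesc.topAugTop (FibDesc.cechAug f))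
        AddCommGrpCat.{u}).obj G))

lemma DescAt.of_iso {X S : TopCat.{u}} {f : X ⟶ S} {G G' : CohTop.Ab S} (h : DescAt f G) (e : G ≅ G') :
    DescAt f G' :=
  ⟨(NatTrans.isIso_app_iff_of_iso _ e).1 h.1, fun q => (h.2 q).of_iso
    (((pushY (FibDesc.cechAug f)).rightDerived (q + 1)).mapIso ((FibDesc.pull _ _ _).mapIso e)).symm⟩

theorem preservesFiniteLimits_pullY {X S : TopCat.{u}} (f : X ⟶ S) :
    PreservesFiniteLimits (FibDesc.pull (FibDesc.topAug (FibDesc.cechAug f)) (FibDesc.topAugTop (FibDesc.cechAug f))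
      AddCommGrpCat.{u}) :=
  haveI : PreservesFiniteLimits (fromBase (ProperDescent.extZ (powZ f) (powG f))
      (ProperDescent.extG (powZ f) (powG f)) ⋙ resPart f) := comp_preservesFiniteLimits _ _
  preservesFiniteLimits_of_natIso (pullIso f).symm

theorem descAt_of_isCohDescentMap {X S : TopCat.{u}} {f : X ⟶ S} (h : FibDesc.IsCohDescentMap f)
    (G : CohTop.Ab S) : DescAt f G := by
  haveI := preservesFiniteLimits_pullY f
  obtain ⟨_, _, _, _, _, _, hb⟩ := h
  exact of_bijective (FibDesc.adj (FibDesc.topAug (FibDesc.cechAug f)) (FibDesc.topAugTop (FibDesc.cechAug f))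
    AddCommGrpCat.{u}) (fun K Y a b hK hY => hb ⟨K, ⟨a, hK⟩⟩ ⟨Y, ⟨b, hY⟩⟩) G

theorem isCohDescentMap_of_descAt {X S : TopCat.{u}} {f : X ⟶ S} (h : ∀ G : CohTop.Ab S, DescAt f G) :
    FibDesc.IsCohDescentMap f := by
  haveI := preservesFiniteLimits_pullY f
  let adj := FibDesc.adj (FibDesc.topAug (FibDesc.cechAug f)) (FibDesc.topAugTop (FibDesc.cechAug f))
    AddCommGrpCat.{u}
  haveI : ∀ G, IsIso (adj.unit.app G) := fun G => (h G).1
  haveI : IsIso adj.unit := NatIso.isIso_of_isIso_app _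
  refine ⟨inferInstance, inferInstance, inferInstance, inferInstance, inferInstance, inferInstance, fun K L => ?_⟩
  obtain ⟨n, hn⟩ := L.property
  exact bijective_mapDerivedCategory adj (fun G q => (h G).2 q) K.obj L.obj n hn

section Chart

variable {S : TopCat.{u}} {τ : Type u} {Z : τ → TopCat.{u}} {g : ∀ i, Z i ⟶ S}

theorem bijMem_iff_descAt (k : Chart Z g) {A₀ : TopCat.{u}} {w : A₀ ⟶ S} (hb : k.IsBaseChange w)
    {F : CohTop.Ab S} (R : InjectiveResolution ((fromBase Z g).obj F)) :
    (∀ q, BijMem (HomologicalComplex.homologyMap (etaCx (liftable Z g w) R.cocomplex) q) k.o₀) ↔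
      DescAt k.f ((CohTop.pull (str Z g k.o₀)).obj F) :=
  Chart.bijMem_iff hb R

/-- Inverse image along the identity. -/
def pullIdIso (F : CohTop.Ab S) : (CohTop.pull (𝟙 S)).obj F ≅ F :=
  ((TopCat.Sheaf.pullbackPushforwardAdjunction AddCommGrpCat.{u} (𝟙 S)).leftAdjointUniq
    (Adjunction.id.ofNatIsoRight (Iso.refl _))).app F

end Chart

section Equiv

variable {A A' T : TopCat.{u}} (f : A ⟶ T) (f' : A' ⟶ T)

/-- Its spaces. -/
abbrev Z₂ (i : Idx₂.{u}) : TopCat.{u} :=
  match i with
  | .fst p => powX f p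
  | .snd p => powX f' p

/-- Its structure maps. -/
abbrev g₂ (i : Idx₂.{u}) : Z₂ f f' i ⟶ T :=
  match i with
  | .fst p => powG f ⟨p⟩
  | .snd p => powG f' ⟨p⟩

/-- The first chart. -/
def chart₂fst : Chart (Z₂ f f') (g₂ f f') where
  o₀ := none
  A := A
  f := f
  e p := some (.fst p)
  φ _ := Iso.refl _
  φw p := (Category.id_comp _).trans (Category.comp_id _)

/-- The second chart. -/
def chart₂snd : Chart (Z₂ f f') (g₂ f f') where
  o₀ := none
  A := A'
  f := f'
  e p := some (.snd p)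
  φ _ := Iso.refl _
  φw p := (Category.id_comp _).trans (Category.comp_id _)

variable {f f'}

/-- Descent only depends on the liftable objects. -/
theorem isCohDescentMap_of_equiv (c : A ⟶ A') (hc : c ≫ f' = f) (c' : A' ⟶ A) (hc' : c' ≫ f = f')
    (h : FibDesc.IsCohDescentMap f') : FibDesc.IsCohDescentMap f := by
  refine isCohDescentMap_of_descAt fun G => ?_
  let R := injectiveResolution ((fromBase (Z₂ f f') (g₂ f f')).obj G)
  have h₁ : (chart₂fst f f').IsBaseChange f' :=
    ⟨⟨c, hc.trans (Category.comp_id _).symm⟩, fun {T} t b e =>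
      ⟨t ≫ c', (Category.assoc _ _ _).trans ((congrArg (t ≫ ·) hc').trans (e.trans (Category.comp_id _)))⟩⟩
  have h₂ : (chart₂snd f f').IsBaseChange f' :=
    ⟨⟨𝟙 _, (Category.id_comp _).trans (Category.comp_id _).symm⟩, fun {T} t b e =>
      ⟨t, e.trans (Category.comp_id _)⟩⟩
  have hq := (bijMem_iff_descAt _ h₂ R).2 (descAt_of_isCohDescentMap (f := f') h _)
  exact ((bijMem_iff_descAt _ h₁ R).1 hq).of_iso (pullIdIso G)

end Equiv

section Local

variable {X Y S : TopCat.{u}} (u : X ⟶ S) (v : Y ⟶ S)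

/-- The base change of `v` to a power of `u`. -/
abbrev vBase (m : ℕ) : pullback v (powG u ⟨m⟩) ⟶ powX u m := pullback.snd v (powG u ⟨m⟩)

/-- The base change of `u` to a power of `v`. -/
abbrev uBase (n : ℕ) : pullback u (powG v ⟨n⟩) ⟶ powX v n := pullback.snd u (powG v ⟨n⟩)

/-- The spaces of the family. -/
abbrev Z₄ (i : Idx₄.{u}) : TopCat.{u} :=
  match i with
  | .uPow m => powX u m
  | .vPow n => powX v n
  | .vOver m p => powX (vBase u v m) p
  | .uOver n p => powX (uBase u v n) p

/-- Their structure maps. -/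
abbrev g₄ (i : Idx₄.{u}) : Z₄ u v i ⟶ S :=
  match i with
  | .uPow m => powG u ⟨m⟩
  | .vPow n => powG v ⟨n⟩
  | .vOver m p => powG (vBase u v m) ⟨p⟩ ≫ powG u ⟨m⟩
  | .uOver n p => powG (uBase u v n) ⟨p⟩ ≫ powG v ⟨n⟩

/-- The chart of `u`. -/
def chartU : Chart (Z₄ u v) (g₄ u v) where
  o₀ := none
  A := X
  f := u
  e p := some (.uPow p)
  φ _ := Iso.refl _
  φw p := (Category.id_comp _).trans (Category.comp_id _)

/-- The chart of `v`. -/
def chartV : Chart (Z₄ u v) (g₄ u v) where
  o₀ := none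
  A := Y
  f := v
  e p := some (.vPow p)
  φ _ := Iso.refl _
  φw p := (Category.id_comp _).trans (Category.comp_id _)

/-- The chart of `v` over a power of `u`. -/
def chartVm (m : ℕ) : Chart (Z₄ u v) (g₄ u v) where
  o₀ := some (.uPow m)
  A := pullback v (powG u ⟨m⟩)
  f := vBase u v m
  e p := some (.vOver m p)
  φ _ := Iso.refl _
  φw p := Category.id_comp _

/-- The chart of `u` over a power of `v`. -/
def chartUn (n : ℕ) : Chart (Z₄ u v) (g₄ u v) where
  o₀ := some (.vPow n)
  A := pullback u (powG v ⟨n⟩)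
  f := uBase u v n
  e p := some (.uOver n p)
  φ _ := Iso.refl _
  φw p := Category.id_comp _

lemma isBaseChange_chartU : (chartU u v).IsBaseChange u :=
  ⟨⟨𝟙 _, (Category.id_comp _).trans (Category.comp_id _).symm⟩, fun {T} t b e => ⟨t, e.trans (Category.comp_id _)⟩⟩

lemma isBaseChange_chartV : (chartV u v).IsBaseChange v :=
  ⟨⟨𝟙 _, (Category.id_comp _).trans (Category.comp_id _).symm⟩, fun {T} t b e => ⟨t, e.trans (Category.comp_id _)⟩⟩

lemma isBaseChange_chartVm (m : ℕ) : (chartVm u v m).IsBaseChange v :=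
  ⟨⟨pullback.fst _ _, pullback.condition⟩, fun {T} t b e => ⟨pullback.lift t b e, pullback.lift_snd _ _ _⟩⟩

lemma isBaseChange_chartUn (n : ℕ) : (chartUn u v n).IsBaseChange u :=
  ⟨⟨pullback.fst _ _, pullback.condition⟩, fun {T} t b e => ⟨pullback.lift t b e, pullback.lift_snd _ _ _⟩⟩

lemma isIso_resTo_homologyMap {τ : Type u} {Z : τ → TopCat.{u}} {g : ∀ i, Z i ⟶ S}
    {K L : CochainComplex (Sheaf (covers Z g) AddCommGrpCat.{u}) ℕ} (φ : K ⟶ L) (h : ∀ i, IsIso (φ.f i)) (q : ℕ)
    (o : Option τ) : IsIso ((resTo Z g o).map (HomologicalComplex.homologyMap φ q)) := by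
  have : IsIso φ := HomologicalComplex.Hom.isIso_of_components φ
  have : IsIso (HomologicalComplex.homologyMap φ q) :=
    inferInstanceAs (IsIso ((HomologicalComplex.homologyFunctor _ _ q).map φ))
  infer_instance

lemma isIso_of_bijAt {τ : Type u} {Z : τ → TopCat.{u}} {g : ∀ i, Z i ⟶ S}
    {M N : Sheaf (covers Z g) AddCommGrpCat.{u}} (φ : M ⟶ N) (h : ∀ c, BijAt φ c) : IsIso φ := by
  have : ∀ c, IsIso (φ.hom.app c) := fun c => (ConcreteCategory.isIso_iff_bijective _).2 (h c.unop)
  have : IsIso φ.hom := NatIso.isIso_of_isIso_app _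
  have : IsIso ((sheafToPresheaf _ _).map φ) := this
  exact isIso_of_reflects_iso _ (sheafToPresheaf _ _)

/-- A map which descends over all powers of a map of universal descent descends. -/
theorem isCohDescentMap_of_local (hv : FibDesc.IsCohDescentMap v)
    (hvm : ∀ m, FibDesc.IsCohDescentMap (vBase u v m)) (hun : ∀ n, FibDesc.IsCohDescentMap (uBase u v n)) :
    FibDesc.IsCohDescentMap u := by
  refine isCohDescentMap_of_descAt fun G => DescAt.of_iso ?_ (pullIdIso G)
  let Z := Z₄ u v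
  let g := g₄ u v
  let R := injectiveResolution ((fromBase Z g).obj G)
  refine (bijMem_iff_descAt _ (isBaseChange_chartU u v) R).1 fun q => ?_
  let P := liftable Z g u
  let Q := liftable Z g v
  let J := covers Z g
  let CP := (loc J P).mapHomologicalComplex (ComplexShape.up ℕ)
  let CQ := (loc J Q).mapHomologicalComplex (ComplexShape.up ℕ)
  have a : IsIso ((resTo Z g none).map (HomologicalComplex.homologyMap (etaCx Q R.cocomplex) q)) :=
    (isIso_resTo_map_iff _ _).2 ((bijMem_iff_descAt _ (isBaseChange_chartV u v) R).2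
      (descAt_of_isCohDescentMap (f := (chartV u v).f) hv _) q)
  have hm : ∀ m q, BijMem (HomologicalComplex.homologyMap (etaCx Q R.cocomplex) q) (some (Idx₄.uPow m)) :=
    fun m q => (bijMem_iff_descAt _ (isBaseChange_chartVm u v m) R).2
      (descAt_of_isCohDescentMap (f := (chartVm u v m).f) (hvm m) _) q
  have hn : ∀ n q, BijMem (HomologicalComplex.homologyMap (etaCx P R.cocomplex) q) (some (Idx₄.vPow n)) :=
    fun n q => (bijMem_iff_descAt _ (isBaseChange_chartUn u v n) R).2
      (descAt_of_isCohDescentMap (f := (chartUn u v n).f) (hun n) _) q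
  have b : IsIso ((resTo Z g none).map (HomologicalComplex.homologyMap (CP.map (etaCx Q R.cocomplex)) q)) :=
    (isIso_resTo_map_iff _ _).2 (Chart.bijMem_loc_map (isBaseChange_chartU u v) R (Q := Q) hm q)
  have b' : IsIso ((resTo Z g none).map (HomologicalComplex.homologyMap (CQ.map (etaCx P R.cocomplex)) q)) :=
    (isIso_resTo_map_iff _ _).2 (Chart.bijMem_loc_map (isBaseChange_chartV u v) R (Q := P) hn q)
  let LQ := CQ.obj R.cocomplex
  let LPQ := CQ.obj (CP.obj R.cocomplex)
  have hA : IsIso ((resTo Z g none).map (HomologicalComplex.homologyMap (CP.map (CQ.map (etaCx P R.cocomplex))) q)) :=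
    isIso_resTo_homologyMap _ (fun i => isIso_of_bijAt _ fun c => bijAt_locMap _ _ fun T hT _ =>
      bijAt_locMap _ _ fun T' _ b => bijAt_toLoc _ (IsDownClosed.down b hT)) q none
  have hB : IsIso ((resTo Z g none).map (HomologicalComplex.homologyMap (etaCx P LPQ) q)) :=
    isIso_resTo_homologyMap _ (fun i => isIso_of_bijAt _ fun c => bijAt_toLoc_loc_loc _ _ _) q none
  have n1 : etaCx Q R.cocomplex ≫ etaCx P LQ = etaCx P R.cocomplex ≫ CP.map (etaCx Q R.cocomplex) :=
    HomologicalComplex.hom_ext _ _ fun i => (toLoc J P).naturality ((toLoc J Q).app (R.cocomplex.X i))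
  have n2 : etaCx P LQ ≫ CP.map (CQ.map (etaCx P R.cocomplex)) = CQ.map (etaCx P R.cocomplex) ≫ etaCx P LPQ :=
    HomologicalComplex.hom_ext _ _ fun i =>
      ((toLoc J P).naturality ((loc J Q).map ((toLoc J P).app (R.cocomplex.X i)))).symm
  let Ψ := fun {K L : CochainComplex (Sheaf J AddCommGrpCat.{u}) ℕ} (φ : K ⟶ L) =>
    (resTo Z g none).map (HomologicalComplex.homologyMap φ q)
  have hΨ : ∀ {K L M : CochainComplex (Sheaf J AddCommGrpCat.{u}) ℕ} (φ : K ⟶ L) (ψ : L ⟶ M),
      Ψ (φ ≫ ψ) = Ψ φ ≫ Ψ ψ := fun φ ψ => by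
    show (resTo Z g none).map _ = _
    rw [HomologicalComplex.homologyMap_comp, Functor.map_comp]
  have c : IsIso (Ψ (etaCx P LQ)) := by
    have e := congrArg Ψ n2
    rw [hΨ, hΨ] at e
    exact @IsIso.of_isIso_comp_right _ _ _ _ _ (Ψ (etaCx P LQ)) (Ψ (CP.map (CQ.map (etaCx P R.cocomplex)))) hA
      (e ▸ @IsIso.comp_isIso _ _ _ _ _ _ _ b' hB)
  have e := congrArg Ψ n1
  rw [hΨ, hΨ] at e
  exact (isIso_resTo_map_iff _ _).1
    (@IsIso.of_isIso_comp_right _ _ _ _ _ (Ψ (etaCx P R.cocomplex)) (Ψ (CP.map (etaCx Q R.cocomplex))) b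
      (e ▸ @IsIso.comp_isIso _ _ _ _ _ _ _ a c))

end Local

end Groth.Agent.CohDescTop
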