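import Groth.Agent.CohDescTop.Transitive
import Groth.Agent.CohDescTop.LocalSections

/-!
# Universal cohomological descent
-/

set_option autoImplicit false
set_option linter.unusedSectionVars false
set_option linter.style.haveILetI false
set_option backward.isDefEq.respectTransparency false
set_option backward.isDefEq.respectTransparency.types false
set_option synthInstance.maxHeartbeats 100000

universe u

open CategoryTheory CategoryTheory.Limits Opposite TopologicalSpace

noncomputable section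

namespace Groth.Agent.CohDescTop

/-- A base change, as far as lifting goes. -/
structure IsBC {A T A' T' : TopCat.{u}} (f : A ⟶ T) (f' : A' ⟶ T') (a : T ⟶ T') : Prop where
  down : ∃ p : A ⟶ A', p ≫ f' = f ≫ a
  lift : ∀ {W : TopCat.{u}} (t : W ⟶ A') (b : W ⟶ T), t ≫ f' = b ≫ a → ∃ c : W ⟶ A, c ≫ f = b

variable {A T A' T' : TopCat.{u}} {f : A ⟶ T} {f' : A' ⟶ T'} {a : T ⟶ T'}

theorem isBC_snd (f : A' ⟶ T') (a : T ⟶ T') : IsBC (pullback.snd f a) f a :=
  ⟨⟨pullback.fst _ _, pullback.condition⟩, fun t b e => ⟨pullback.lift t b e, pullback.lift_snd _ _ _⟩⟩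

theorem IsBC.trans {A'' T'' : TopCat.{u}} {f'' : A'' ⟶ T''} {a' : T' ⟶ T''} (h : IsBC f f' a)
    (h' : IsBC f' f'' a') : IsBC f f'' (a ≫ a') where
  down := by
    obtain ⟨p, hp⟩ := h.down
    obtain ⟨q, hq⟩ := h'.down
    exact ⟨p ≫ q, by rw [Category.assoc, hq, reassoc_of% hp]⟩
  lift {W} t b e := by
    obtain ⟨c, hc⟩ := h'.lift t (b ≫ a) (e.trans (Category.assoc _ _ _).symm)
    exact h.lift c b hc

theorem IsBC.congr {a' : T ⟶ T'} (h : IsBC f f' a) (e : a = a') : IsBC f f' a' := e ▸ h

/-- A base change of a map of universal descent descends. -/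
theorem IsBC.isCohDescentMap (h : IsBC f f' a) (hf' : FibDesc.IsUnivCohDescentMap f') :
    FibDesc.IsCohDescentMap f := by
  obtain ⟨p, hp⟩ := h.down
  obtain ⟨c, hc⟩ := h.lift (pullback.fst f' a) (pullback.snd f' a) pullback.condition
  exact isCohDescentMap_of_equiv (pullback.lift p f hp) (pullback.lift_snd _ _ _) c hc (hf' T a)

/-- Base changes of maps of universal descent are of universal descent. -/
theorem IsBC.isUnivCohDescentMap (h : IsBC f f' a) (hf' : FibDesc.IsUnivCohDescentMap f') :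
    FibDesc.IsUnivCohDescentMap f := fun _ b => ((isBC_snd f b).trans h).isCohDescentMap hf'

/-- A base change along a composite is one of the base change. -/
theorem IsBC.descend {X S S' : TopCat.{u}} {f₀ : X ⟶ S} {g : S' ⟶ S} {s : T ⟶ S'} (h : IsBC f f₀ (s ≫ g)) :
    IsBC f (pullback.snd f₀ g) s where
  down := by
    obtain ⟨p, hp⟩ := h.down
    exact ⟨pullback.lift p (f ≫ s) (hp.trans (Category.assoc _ _ _).symm), pullback.lift_snd _ _ _⟩
  lift {W} t b e := h.lift (t ≫ pullback.fst _ _) b (by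
    rw [Category.assoc, pullback.condition, reassoc_of% e])

/-- Universal descent can be checked after a map of universal descent. -/
theorem isUnivCohDescentMap_iff_baseChange {X S S' : TopCat.{u}} (f : X ⟶ S) (g : S' ⟶ S)
    (hg : FibDesc.IsUnivCohDescentMap g) :
    FibDesc.IsUnivCohDescentMap f ↔ FibDesc.IsUnivCohDescentMap (pullback.snd f g) := by
  refine ⟨fun hf => (isBC_snd f g).isUnivCohDescentMap hf, fun hf T t => ?_⟩
  refine isCohDescentMap_of_local (pullback.snd f t) (pullback.snd g t) (hg T t)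
    (fun m => ((isBC_snd _ _).trans (isBC_snd g t)).isCohDescentMap hg) fun n => ?_
  let v := pullback.snd g t
  let s : widePullback T (fun _ : Fin (n + 1) => pullback g t) (fun _ => v) ⟶ S' :=
    WidePullback.π (fun _ : Fin (n + 1) => v) 0 ≫ pullback.fst g t
  have e : WidePullback.base (fun _ : Fin (n + 1) => v) ≫ t = s ≫ g := by
    rw [← WidePullback.π_arrow (fun _ : Fin (n + 1) => v) 0]
    simp only [s, v, Category.assoc, pullback.condition]
  exact (((isBC_snd _ _).trans (isBC_snd f t)).congr e).descend.isCohDescentMap hf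

/-- Right cancellation. -/
theorem isUnivCohDescentMap_of_comp {X Y S : TopCat.{u}} (f : X ⟶ Y) (g : Y ⟶ S)
    (h : FibDesc.IsUnivCohDescentMap (f ≫ g)) : FibDesc.IsUnivCohDescentMap g := by
  refine (isUnivCohDescentMap_iff_baseChange g (f ≫ g) h).2 ?_
  exact isUnivCohDescentMap_of_localSections _
    (localSections_of_section _ (pullback.lift f (𝟙 X) (Category.id_comp _).symm) (pullback.lift_snd _ _ _))

/-- Composition. -/
theorem isUnivCohDescentMap_comp {X Y S : TopCat.{u}} (f : X ⟶ Y) (g : Y ⟶ S)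
    (hf : FibDesc.IsUnivCohDescentMap f) (hg : FibDesc.IsUnivCohDescentMap g) :
    FibDesc.IsUnivCohDescentMap (f ≫ g) := by
  refine (isUnivCohDescentMap_iff_baseChange (f ≫ g) g hg).2 ?_
  refine isUnivCohDescentMap_of_comp (pullback.lift (𝟙 X) f (Category.id_comp _)) _ ?_
  rw [pullback.lift_snd]
  exact hf

/-- Fibre products. -/
theorem isUnivCohDescentMap_map {X X' Y Y' S : TopCat.{u}} (pX : X' ⟶ S) (pY : Y' ⟶ S)
    (f : X ⟶ X') (g : Y ⟶ Y') (hf : FibDesc.IsUnivCohDescentMap f) (hg : FibDesc.IsUnivCohDescentMap g) :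
    FibDesc.IsUnivCohDescentMap
      (pullback.map (f ≫ pX) (g ≫ pY) pX pY f g (𝟙 S) (Category.comp_id _) (Category.comp_id _)) := by
  let m₁ := pullback.map (f ≫ pX) (g ≫ pY) (f ≫ pX) pY (𝟙 X) g (𝟙 S)
    (by rw [Category.comp_id, Category.id_comp]) (Category.comp_id _)
  let m₂ := pullback.map (f ≫ pX) pY pX pY f (𝟙 Y') (𝟙 S) (Category.comp_id _)
    (by rw [Category.comp_id, Category.id_comp])
  have h₁ : IsBC m₁ g (pullback.snd _ _) := by
    refine ⟨⟨pullback.snd _ _, (pullback.lift_snd _ _ _).symm⟩, fun {W} t b e => ?_⟩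
    refine ⟨pullback.lift (b ≫ pullback.fst _ _) t ?_, ?_⟩
    · rw [Category.assoc, pullback.condition, ← reassoc_of% e]
    · apply pullback.hom_ext <;> simp [m₁, e]
  have h₂ : IsBC m₂ f (pullback.fst _ _) := by
    refine ⟨⟨pullback.fst _ _, (pullback.lift_fst _ _ _).symm⟩, fun {W} t b e => ?_⟩
    refine ⟨pullback.lift t (b ≫ pullback.snd _ _) ?_, ?_⟩
    · rw [Category.assoc, ← pullback.condition, reassoc_of% e]
    · apply pullback.hom_ext <;> simp [m₂, e]
  have e : pullback.map (f ≫ pX) (g ≫ pY) pX pY f g (𝟙 S) (Category.comp_id _) (Category.comp_id _) = m₁ ≫ m₂ := by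
    apply pullback.hom_ext <;> simp [m₁, m₂]
  rw [e]
  exact isUnivCohDescentMap_comp _ _ (h₁.isUnivCohDescentMap hg) (h₂.isUnivCohDescentMap hf)

end Groth.Agent.CohDescTop
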